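import Mathlib.RingTheory.Polynomial.Eisenstein.Criterion
import Mathlib.RingTheory.Polynomial.UniqueFactorization
import Mathlib.RingTheory.Ideal.KrullsHeightTheorem
import Mathlib.RingTheory.MvPolynomial.Symmetric.Defs
import Mathlib.Algebra.MvPolynomial.Equiv
import Mathlib.Algebra.MvPolynomial.Division
import Mathlib.Algebra.MvPolynomial.PDeriv
import Mathlib.RingTheory.Ideal.MinimalPrime.Basic
import Mathlib.Tactic

set_option autoImplicit false
universe u

namespace K655.Esymm

open Polynomial

/-- Extension of ideals to the polynomial ring is strictly monotone. -/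
lemma map_C_lt {R : Type u} [CommRing R] {I J : Ideal R} (h : I < J) :
    Ideal.map (C : R →+* R[X]) I < Ideal.map (C : R →+* R[X]) J := by
  refine lt_of_le_of_ne (Ideal.map_mono h.le) fun e => ?_
  apply h.not_ge
  intro x hx
  have h1 : C x ∈ Ideal.map (C : R →+* R[X]) J := Ideal.mem_map_of_mem _ hx
  rw [← e, Ideal.mem_map_C_iff] at h1
  simpa using h1 0

variable (k : Type u) [Field k]

/-- polynomial ring in three variables -/
abbrev R3 := MvPolynomial (Fin 3) k

/-- first elementary symmetric polynomial -/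
noncomputable def e1 : R3 k := MvPolynomial.X 0 + MvPolynomial.X 1 + MvPolynomial.X 2
/-- second elementary symmetric polynomial -/
noncomputable def e2 : R3 k := MvPolynomial.X 0 * MvPolynomial.X 1 +
  MvPolynomial.X 0 * MvPolynomial.X 2 + MvPolynomial.X 1 * MvPolynomial.X 2
/-- third elementary symmetric polynomial -/
noncomputable def e3 : R3 k := MvPolynomial.X 0 * MvPolynomial.X 1 * MvPolynomial.X 2

/-- elementary symmetric polynomials in four variables -/
noncomputable def s1 : (R3 k)[X] := X + C (e1 k)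
/-- elementary symmetric polynomials in four variables -/
noncomputable def s2 : (R3 k)[X] := C (e1 k) * X + C (e2 k)
/-- elementary symmetric polynomials in four variables -/
noncomputable def s3 : (R3 k)[X] := C (e2 k) * X + C (e3 k)
/-- elementary symmetric polynomials in four variables -/
noncomputable def s4 : (R3 k)[X] := C (e3 k) * X

/-- the quintic `s₂ s₃ - s₁ s₄`. -/
noncomputable def P : (R3 k)[X] :=
  C (e1 k * e2 k - e3 k) * X ^ 2 + C (e2 k ^ 2) * X + C (e2 k * e3 k)

lemma P_eq : P k = s2 k * s3 k - s1 k * s4 k := by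
  simp only [P, s1, s2, s3, s4, map_sub, map_mul, map_pow]
  ring

lemma not_X_dvd_e2 (i : Fin 3) : ¬ (MvPolynomial.X i : R3 k) ∣ e2 k := by
  rintro ⟨g, hg⟩
  have h := congrArg (MvPolynomial.eval (fun j : Fin 3 => if j = i then (0 : k) else 1)) hg
  rw [map_mul, MvPolynomial.eval_X, if_pos rfl, zero_mul] at h
  revert h
  simp only [e2, map_add, map_mul, MvPolynomial.eval_X]
  fin_cases i <;> simp

lemma isRelPrime_e2_X (i : Fin 3) : IsRelPrime (e2 k) (MvPolynomial.X i : R3 k) := by
  have hX : Irreducible (MvPolynomial.X i : R3 k) := (MvPolynomial.X_prime).irreducible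
  exact ((hX.isRelPrime_iff_not_dvd).2 (not_X_dvd_e2 k i)).symm

lemma isRelPrime_e2_e3 : IsRelPrime (e2 k) (e3 k) :=
  ((isRelPrime_e2_X k 0).mul_right (isRelPrime_e2_X k 1)).mul_right (isRelPrime_e2_X k 2)

lemma isRelPrime_aux : IsRelPrime (e2 k ^ 2) (e1 k * e2 k - e3 k) := by
  refine IsRelPrime.pow_left ?_
  intro d h1 h2
  refine isRelPrime_e2_e3 k h1 ?_
  have h3 : e3 k = e2 k * e1 k - (e1 k * e2 k - e3 k) := by ring
  rw [h3]
  exact dvd_sub (h1.mul_right _) h2

/-- the point `(2, 2, -1)`. -/
def pt : Fin 3 → k := ![2, 2, -1]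

/-- maximal ideal of the point -/
noncomputable def m : Ideal (R3 k) := RingHom.ker (MvPolynomial.eval (pt k))

lemma mem_m (x : R3 k) : x ∈ m k ↔ MvPolynomial.eval (pt k) x = 0 := RingHom.mem_ker

instance : (m k).IsPrime := RingHom.ker_isPrime _

lemma eval_pderiv_of_mem_sq (x : R3 k) (hx : x ∈ m k ^ 2) :
    MvPolynomial.eval (pt k) (MvPolynomial.pderiv 0 x) = 0 := by
  rw [pow_two] at hx
  refine Submodule.mul_induction_on hx ?_ ?_
  · intro a ha b hb
    rw [mem_m] at ha hb
    simp [Derivation.leibniz, ha, hb]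
  · intro a b ha hb
    rw [map_add, map_add, ha, hb, add_zero]

lemma eval_e2 : MvPolynomial.eval (pt k) (e2 k) = 0 := by
  simp [e2, pt]; ring

lemma eval_e3 : MvPolynomial.eval (pt k) (e3 k) = -4 := by
  simp [e3, pt]; norm_num

lemma e1e2_ne_zero [CharZero k] : e1 k * e2 k - e3 k ≠ 0 := by
  intro h
  have h1 := congrArg (MvPolynomial.eval (pt k)) h
  rw [map_sub, map_mul, eval_e2, eval_e3] at h1
  norm_num at h1

lemma natDegree_P [CharZero k] : (P k).natDegree = 2 := by
  rw [P]
  exact natDegree_quadratic (e1e2_ne_zero k)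

lemma P_ne_zero [CharZero k] : P k ≠ 0 := by
  intro h
  have := natDegree_P k
  rw [h] at this
  simp at this

lemma coeff_P_two : (P k).coeff 2 = e1 k * e2 k - e3 k := by
  simp only [P, coeff_add, coeff_C_mul, coeff_X_pow, coeff_X, coeff_C]
  simp
lemma coeff_P_one : (P k).coeff 1 = e2 k ^ 2 := by
  simp only [P, coeff_add, coeff_C_mul, coeff_X_pow, coeff_X_one, coeff_C]
  simp
lemma coeff_P_zero : (P k).coeff 0 = e2 k * e3 k := by
  simp [P]

lemma irreducible_P [CharZero k] : Irreducible (P k) := by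
  have hdeg : (P k).degree = 2 := by
    rw [degree_eq_natDegree (P_ne_zero k), natDegree_P]; rfl
  refine irreducible_of_eisenstein_criterion (P := m k) inferInstance ?_ ?_ ?_ ?_ ?_
  · rw [leadingCoeff, natDegree_P, coeff_P_two, mem_m, map_sub, map_mul, eval_e2, eval_e3]
    norm_num
  · intro n hn
    rw [hdeg] at hn
    have hn' : n < 2 := by exact_mod_cast hn
    interval_cases n
    · rw [coeff_P_zero, mem_m, map_mul, eval_e2, zero_mul]
    · rw [coeff_P_one, mem_m, map_pow, eval_e2]; norm_num
  · rw [hdeg]; norm_num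
  · rw [coeff_P_zero]
    intro h
    have h1 := eval_pderiv_of_mem_sq k _ h
    rw [Derivation.leibniz, map_add, smul_eq_mul, smul_eq_mul, map_mul, map_mul, eval_e2,
      eval_e3] at h1
    simp [e2, pt, MvPolynomial.pderiv_X, Derivation.leibniz] at h1
    norm_num at h1
  · rw [isPrimitive_iff_isUnit_of_C_dvd]
    intro r hr
    rw [C_dvd_iff_dvd_coeff] at hr
    have h1 := hr 1
    have h2 := hr 2
    rw [coeff_P_one] at h1
    rw [coeff_P_two] at h2
    exact isRelPrime_aux k h1 h2

lemma prime_P [CharZero k] : Prime (P k) := (irreducible_P k).prime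

end K655.Esymm
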