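import Groth.Agent.Cubic.K655.Esymm
import Mathlib.RingTheory.Localization.FractionRing

set_option autoImplicit false
universe u

namespace K655.Esymm

open Polynomial

section general

variable {A : Type u} [CommRing A] [IsDomain A] [IsNoetherianRing A]

lemma height_ge {R : Type u} [CommRing R] [IsDomain R] {p1 p2 p : Ideal R} [p1.IsPrime]
    [p2.IsPrime] [p.IsPrime] (h1 : ⊥ < p1) (h2 : p1 < p2) (h3 : p2 < p) : 3 ≤ p.height := by
  have : (⊥ : Ideal R).IsPrime := Ideal.isPrime_bot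
  have a1 := Ideal.height_add_one_le_of_lt_of_isPrime h1
  have a2 := Ideal.height_add_one_le_of_lt_of_isPrime h2
  have a3 := Ideal.height_add_one_le_of_lt_of_isPrime h3
  calc (3 : ℕ∞) = 0 + 1 + 1 + 1 := by norm_num
    _ ≤ (⊥ : Ideal R).height + 1 + 1 + 1 := by gcongr; exact zero_le
    _ ≤ p1.height + 1 + 1 := by gcongr
    _ ≤ p2.height + 1 := by gcongr
    _ ≤ p.height := a3

lemma bot_lt_map {R : Type u} [CommRing R] {I : Ideal R} (h : ⊥ < I) :
    ⊥ < Ideal.map (C : R →+* R[X]) I := by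
  have := map_C_lt h
  rwa [Ideal.map_bot] at this

variable (s1 s2 s3 s4 : A)

lemma s1_notMem (hs1p : Prime s1) (h12 : ¬ s1 ∣ s2)
    (hsp : ∀ q : Ideal A, q.IsPrime → s1 ∈ q → s2 ∈ q → s3 ∈ q → s4 ∈ q →
      ∃ p1 p2 : Ideal A, p1.IsPrime ∧ p2.IsPrime ∧ ⊥ < p1 ∧ p1 < p2 ∧ p2 < q)
    (p : Ideal A[X]) (hp : p ∈ (Ideal.span {C s1 * X + C s2, C s3 * X + C s4}).minimalPrimes) :
    C s1 ∉ p := by
  intro hs1
  have hpp : p.IsPrime := hp.1.1
  have hIp : Ideal.span {C s1 * X + C s2, C s3 * X + C s4} ≤ p := hp.1.2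
  have hht : p.height ≤ 2 := by
    refine (Ideal.height_le_card_of_mem_minimalPrimes_span (Set.toFinite _) hp).trans ?_
    have : ({C s1 * X + C s2, C s3 * X + C s4} : Set A[X]).ncard ≤ 2 := by
      refine (Set.ncard_insert_le _ _).trans ?_
      rw [Set.ncard_singleton]
    exact_mod_cast this
  have key : ¬ 3 ≤ p.height := by
    intro h
    have := h.trans hht
    norm_num at this
  apply key
  set q : Ideal A := Ideal.comap C p with hq
  have hqp : q.IsPrime := Ideal.comap_isPrime C p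
  have h1 : s1 ∈ q := hs1
  have h2 : s2 ∈ q := by
    rw [hq, Ideal.mem_comap]
    have : C s2 = (C s1 * X + C s2) - C s1 * X := by ring
    rw [this]
    exact Ideal.sub_mem _ (hIp (Ideal.subset_span (by simp))) (Ideal.mul_mem_right _ _ hs1)
  have hle : Ideal.map C q ≤ p := Ideal.map_comap_le
  have hs1p' : (Ideal.span {s1}).IsPrime :=
    (Ideal.span_singleton_prime hs1p.ne_zero).2 hs1p
  rcases lt_or_eq_of_le hle with hlt | heq
  · refine height_ge (p1 := Ideal.map C (Ideal.span {s1})) (p2 := Ideal.map C q)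
      (bot_lt_map ?_) (map_C_lt ?_) hlt
    · rw [bot_lt_iff_ne_bot, ne_eq, Ideal.span_singleton_eq_bot]
      exact hs1p.ne_zero
    · refine lt_of_le_of_ne ((Ideal.span_singleton_le_iff_mem _).2 h1) fun e => ?_
      rw [← e, Ideal.mem_span_singleton] at h2
      exact h12 h2
  · have ht4 : C s3 * X + C s4 ∈ Ideal.map C q := by
      rw [heq]; exact hIp (Ideal.subset_span (by simp))
    rw [Ideal.mem_map_C_iff] at ht4
    have h3 : s3 ∈ q := by simpa using ht4 1
    have h4 : s4 ∈ q := by simpa using ht4 0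
    obtain ⟨p1, p2, hp1, hp2, c1, c2, c3⟩ := hsp q hqp h1 h2 h3 h4
    have := height_ge (p := Ideal.map C q) (bot_lt_map c1) (map_C_lt c2) (map_C_lt c3)
    rwa [heq] at this

omit [IsDomain A] [IsNoetherianRing A] in
lemma exists_red (g : A[X]) : ∃ (n : ℕ) (r : A),
    C s1 ^ n * g - C r ∈ Ideal.span {C s1 * X + C s2, C s3 * X + C s4} := by
  have ht2 : C s1 * X + C s2 ∈ Ideal.span {C s1 * X + C s2, C s3 * X + C s4} :=
    Ideal.subset_span (by simp)
  induction g using Polynomial.induction_on with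
  | C a => exact ⟨0, a, by simp⟩
  | add p q hp hq =>
    obtain ⟨n, r, hr⟩ := hp
    obtain ⟨m, s, hs⟩ := hq
    refine ⟨n + m, s1 ^ m * r + s1 ^ n * s, ?_⟩
    have : C s1 ^ (n + m) * (p + q) - C (s1 ^ m * r + s1 ^ n * s) =
        C s1 ^ m * (C s1 ^ n * p - C r) + C s1 ^ n * (C s1 ^ m * q - C s) := by
      simp only [map_add, map_mul, map_pow]; ring
    rw [this]
    exact Ideal.add_mem _ (Ideal.mul_mem_left _ _ hr) (Ideal.mul_mem_left _ _ hs)
  | monomial n a h =>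
    obtain ⟨m, r, hr⟩ := h
    refine ⟨m + 1, - (s2 * r), ?_⟩
    have : C s1 ^ (m + 1) * (C a * X ^ (n + 1)) - C (-(s2 * r)) =
        C s1 * X * (C s1 ^ m * (C a * X ^ n) - C r) + C r * (C s1 * X + C s2) := by
      simp only [map_neg, map_mul]; ring
    rw [this]
    exact Ideal.add_mem _ (Ideal.mul_mem_left _ _ hr) (Ideal.mul_mem_left _ _ ht2)

omit [IsDomain A] [IsNoetherianRing A] in
lemma exists_field (P : A) (hPp : Prime P) :
    ∃ (K : Type u) (_ : Field K) (φ : A →+* K), ∀ x, φ x = 0 ↔ P ∣ x := by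
  have hPp' : (Ideal.span {P}).IsPrime := (Ideal.span_singleton_prime hPp.ne_zero).2 hPp
  have : IsDomain (A ⧸ Ideal.span {P}) := Ideal.Quotient.isDomain _
  refine ⟨FractionRing (A ⧸ Ideal.span {P}), inferInstance,
    (algebraMap (A ⧸ Ideal.span {P}) (FractionRing (A ⧸ Ideal.span {P}))).comp
      (Ideal.Quotient.mk _), fun x => ?_⟩
  rw [RingHom.comp_apply, map_eq_zero_iff _ (IsFractionRing.injective (A ⧸ Ideal.span {P}) _),
    Ideal.Quotient.eq_zero_iff_mem, Ideal.mem_span_singleton]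

theorem isPrime_radical_general (hs1p : Prime s1) (h12 : ¬ s1 ∣ s2)
    (hsp : ∀ q : Ideal A, q.IsPrime → s1 ∈ q → s2 ∈ q → s3 ∈ q → s4 ∈ q →
      ∃ p1 p2 : Ideal A, p1.IsPrime ∧ p2.IsPrime ∧ ⊥ < p1 ∧ p1 < p2 ∧ p2 < q)
    (P : A) (hP : P = s2 * s3 - s1 * s4) (hPp : Prime P) (hP1 : ¬ P ∣ s1) :
    (Ideal.span {C s1 * X + C s2, C s3 * X + C s4}).radical.IsPrime := by
  set I : Ideal A[X] := Ideal.span {C s1 * X + C s2, C s3 * X + C s4} with hI
  have ht2 : C s1 * X + C s2 ∈ I := Ideal.subset_span (by simp)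
  have ht4 : C s3 * X + C s4 ∈ I := Ideal.subset_span (by simp)
  have hCP : C P ∈ I := by
    have : C P = C s3 * (C s1 * X + C s2) - C s1 * (C s3 * X + C s4) := by
      rw [hP, C_sub, C_mul, C_mul]; ring
    rw [this]
    exact Ideal.sub_mem _ (Ideal.mul_mem_left _ _ ht2) (Ideal.mul_mem_left _ _ ht4)
  obtain ⟨K, _, φ, hφ⟩ := exists_field P hPp
  have hφ1 : φ s1 ≠ 0 := by
    rw [ne_eq, hφ]; exact hP1
  let ψ : A[X] →+* K := eval₂RingHom φ (- φ s2 / φ s1)
  have hψ2 : ψ (C s1 * X + C s2) = 0 := by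
    simp only [ψ, coe_eval₂RingHom, eval₂_add, eval₂_mul, eval₂_C, eval₂_X]
    rw [mul_div_cancel₀ _ hφ1, neg_add_cancel]
  have hψ4 : ψ (C s3 * X + C s4) = 0 := by
    have h0 : φ P = 0 := (hφ _).2 dvd_rfl
    rw [hP, map_sub, map_mul, map_mul] at h0
    simp only [ψ, coe_eval₂RingHom, eval₂_add, eval₂_mul, eval₂_C, eval₂_X]
    field_simp
    linear_combination -h0
  have hIJ : I ≤ RingHom.ker ψ := by
    rw [hI, Ideal.span_le]
    rintro x (rfl | rfl)
    · exact hψ2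
    · exact hψ4
  have hJp : (RingHom.ker ψ).IsPrime := RingHom.ker_isPrime ψ
  have heq : I.radical = RingHom.ker ψ := by
    refine le_antisymm ((hJp.radical_le_iff).2 hIJ) ?_
    rw [← Ideal.sInf_minimalPrimes]
    refine le_sInf fun p hp g hg => ?_
    have hpp : p.IsPrime := hp.1.1
    obtain ⟨n, r, hr⟩ := exists_red s1 s2 s3 s4 g
    rw [← hI] at hr
    have h1 : ψ (C r) = 0 := by
      have h2 := hIJ hr
      rw [RingHom.mem_ker, map_sub, map_mul, (RingHom.mem_ker).1 hg, mul_zero, zero_sub,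
        neg_eq_zero] at h2
      exact h2
    have h3 : P ∣ r := by
      rw [← hφ]
      simpa [ψ] using h1
    have h4 : C r ∈ I := by
      obtain ⟨c, rfl⟩ := h3
      rw [C_mul]
      exact Ideal.mul_mem_right _ _ hCP
    have h5 : C s1 ^ n * g ∈ I := by
      have := Ideal.add_mem _ hr h4
      rwa [sub_add_cancel] at this
    rcases hpp.mem_or_mem (hp.1.2 h5) with h6 | h6
    · exact absurd (hpp.mem_of_pow_mem n h6) (s1_notMem s1 s2 s3 s4 hs1p h12 hsp p hp)
    · exact h6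
  rw [heq]
  exact hJp

end general

variable (k : Type u) [Field k]

lemma prime_s1 : Prime (s1 k) := by
  have : s1 k = X - C (-(e1 k)) := by rw [s1, map_neg, sub_neg_eq_add]
  rw [this]
  exact prime_X_sub_C _

lemma not_s1_dvd_s2 : ¬ s1 k ∣ s2 k := by
  have : s1 k = X - C (-(e1 k)) := by rw [s1, map_neg, sub_neg_eq_add]
  rw [this, dvd_iff_isRoot, IsRoot, s2]
  intro h
  have h1 := congrArg (MvPolynomial.eval (![1, 0, 0] : Fin 3 → k)) h
  simp [e1, e2] at h1

lemma not_P_dvd_s1 [CharZero k] : ¬ P k ∣ s1 k := by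
  intro h
  have h1 := natDegree_le_of_dvd h (prime_s1 k).ne_zero
  rw [natDegree_P] at h1
  have : (s1 k).natDegree = 1 := by rw [s1]; exact natDegree_X_add_C _
  omega

lemma chain (q : Ideal (R3 k)[X]) (hqp : q.IsPrime) (h1 : s1 k ∈ q) (h2 : s2 k ∈ q)
    (h3 : s3 k ∈ q) (h4 : s4 k ∈ q) :
    ∃ p1 p2 : Ideal (R3 k)[X], p1.IsPrime ∧ p2.IsPrime ∧ ⊥ < p1 ∧ p1 < p2 ∧ p2 < q := by
  have hpow : ∀ x : (R3 k)[X], x ^ 4 = s1 k * x ^ 3 - s2 k * x ^ 2 + s3 k * x - s4 k →
      x ∈ q := by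
    intro x hx
    refine hqp.mem_of_pow_mem 4 ?_
    rw [hx]
    exact Ideal.sub_mem _ (Ideal.add_mem _ (Ideal.sub_mem _ (Ideal.mul_mem_right _ _ h1)
      (Ideal.mul_mem_right _ _ h2)) (Ideal.mul_mem_right _ _ h3)) h4
  have hX : (X : (R3 k)[X]) ∈ q := by
    apply hpow
    simp only [s1, s2, s3, s4]
    ring
  have hX0 : (C (MvPolynomial.X 0) : (R3 k)[X]) ∈ q := by
    apply hpow
    simp only [s1, s2, s3, s4, e1, e2, e3, map_add, map_mul]
    ring
  have hX1 : (C (MvPolynomial.X 1) : (R3 k)[X]) ∈ q := by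
    apply hpow
    simp only [s1, s2, s3, s4, e1, e2, e3, map_add, map_mul]
    ring
  set r : Ideal (R3 k) := Ideal.comap C q with hr
  have hrp : r.IsPrime := Ideal.comap_isPrime C q
  have hX0p : (Ideal.span {(MvPolynomial.X 0 : R3 k)}).IsPrime :=
    (Ideal.span_singleton_prime (MvPolynomial.X_prime).ne_zero).2 (MvPolynomial.X_prime)
  have c1 : (⊥ : Ideal (R3 k)) < Ideal.span {(MvPolynomial.X 0 : R3 k)} := by
    rw [bot_lt_iff_ne_bot, ne_eq, Ideal.span_singleton_eq_bot]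
    exact (MvPolynomial.X_prime).ne_zero
  have c2 : Ideal.span {(MvPolynomial.X 0 : R3 k)} < r := by
    refine lt_of_le_of_ne ((Ideal.span_singleton_le_iff_mem _).2 hX0) fun e => ?_
    have h5 : (MvPolynomial.X 1 : R3 k) ∈ r := hX1
    rw [← e, Ideal.mem_span_singleton] at h5
    obtain ⟨g, hg⟩ := h5
    have h6 := congrArg (MvPolynomial.eval (![0, 1, 0] : Fin 3 → k)) hg
    simp at h6
  have c3 : Ideal.map C r < q := by
    refine lt_of_le_of_ne Ideal.map_comap_le fun e => ?_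
    rw [← e, Ideal.mem_map_C_iff] at hX
    have := hX 1
    rw [coeff_X_one] at this
    exact hrp.ne_top ((Ideal.eq_top_iff_one _).2 this)
  exact ⟨Ideal.map C (Ideal.span {(MvPolynomial.X 0 : R3 k)}), Ideal.map C r,
    inferInstance, inferInstance, bot_lt_map c1, map_C_lt c2, c3⟩

theorem isPrime_radical_I [CharZero k] :
    (Ideal.span {C (s1 k) * X + C (s2 k), C (s3 k) * X + C (s4 k)}).radical.IsPrime :=
  isPrime_radical_general (s1 k) (s2 k) (s3 k) (s4 k) (prime_s1 k) (not_s1_dvd_s2 k)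
    (chain k) (P k) (P_eq k) (prime_P k) (not_P_dvd_s1 k)

end K655.Esymm
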