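import Groth.Agent.Cubic.K655.Pfaff

set_option autoImplicit false

/-! Linear Pfaffian representation of a cubic through five points in general position. -/

namespace K655.Pfaff

open K656.Trilin Module MvPolynomial

universe u v

variable {k : Type u} [Field k]

/-- The linear form polynomial of a linear functional. -/
noncomputable def lin {n : ℕ} (φ : (Fin n → k) →ₗ[k] k) : MvPolynomial (Fin n) k :=
  ∑ j, C (φ (Pi.single j 1)) * X j

theorem eval_lin {n : ℕ} (φ : (Fin n → k) →ₗ[k] k) (v : Fin n → k) : eval v (lin φ) = φ v := by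
  have hv : v = ∑ j, v j • (Pi.single j 1 : Fin n → k) := by
    simpa using (pi_eq_sum_univ' v)
  conv_rhs => rw [hv]
  rw [map_sum, lin, map_sum]
  refine Finset.sum_congr rfl fun j _ => ?_
  rw [map_mul, eval_C, eval_X, map_smul, smul_eq_mul, mul_comm]

theorem lin_hom {n : ℕ} (φ : (Fin n → k) →ₗ[k] k) : (lin φ).IsHomogeneous 1 := by
  refine IsHomogeneous.sum _ _ _ fun j _ => ?_
  have := (isHomogeneous_C (Fin n) (φ (Pi.single j 1))).mul (isHomogeneous_X k j)
  rwa [zero_add] at this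

theorem C_mul_hom {n : ℕ} {p : MvPolynomial (Fin n) k} (hp : p.IsHomogeneous 1) (c : k) :
    (C c * p).IsHomogeneous 1 := by
  have := (isHomogeneous_C (Fin n) c).mul hp
  rwa [zero_add] at this

/-- The skew matrix. -/
def skewM {R : Type*} [CommRing R] (x0 x1 x2 x3 l0 l1 l2 l3 l4 : R) : Matrix (Fin 6) (Fin 6) R :=
  !![0, x3, -x2, -x3, x2, l0;
     -x3, 0, x1, x3, 0, l1;
     x2, -x1, 0, 0, -x2, l2;
     x3, -x3, 0, 0, -x0, l3;
     -x2, 0, x2, x0, 0, l4;
     -l0, -l1, -l2, -l3, -l4, 0]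

theorem skewM_transpose {R : Type*} [CommRing R] (x0 x1 x2 x3 l0 l1 l2 l3 l4 : R) :
    (skewM x0 x1 x2 x3 l0 l1 l2 l3 l4).transpose = -skewM x0 x1 x2 x3 l0 l1 l2 l3 l4 := by
  ext i j
  fin_cases i <;> fin_cases j <;> simp [skewM]

theorem skewM_diag {R : Type*} [CommRing R] (x0 x1 x2 x3 l0 l1 l2 l3 l4 : R) (i : Fin 6) :
    (skewM x0 x1 x2 x3 l0 l1 l2 l3 l4) i i = 0 := by
  fin_cases i <;> rfl

theorem skewM_prop {R : Type*} [CommRing R] (P : R → Prop) (h0 : P 0) (hn : ∀ x, P x → P (-x))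
    (x0 x1 x2 x3 l0 l1 l2 l3 l4 : R) (hx0 : P x0) (hx1 : P x1) (hx2 : P x2) (hx3 : P x3)
    (hl0 : P l0) (hl1 : P l1) (hl2 : P l2) (hl3 : P l3) (hl4 : P l4) (i j : Fin 6) :
    P (skewM x0 x1 x2 x3 l0 l1 l2 l3 l4 i j) := by
  have a0 := hn _ hx0
  have a1 := hn _ hx1
  have a2 := hn _ hx2
  have a3 := hn _ hx3
  have b0 := hn _ hl0
  have b1 := hn _ hl1
  have b2 := hn _ hl2
  have b3 := hn _ hl3
  have b4 := hn _ hl4
  clear hn
  fin_cases i <;> fin_cases j <;> simp only [skewM, Fin.mk_zero, Fin.isValue, Fin.mk_one,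
    Fin.reduceFinMk, Matrix.of_apply, Matrix.cons_val, Matrix.cons_val_zero, Matrix.cons_val_one] <;> assumption


/-- The identity expressing a cubic through the five standard points by the five quadrics. -/
theorem cubic_identity {R : Type*} [CommRing R] (y0 y1 y2 y3 c2100 c2010 c2001 c1200 c0210 c0201
    c1020 c0120 c0021 c1002 c0102 c0012 c1110 c1101 c1011 c0111 : R)
    (hsum : c2100 + c2010 + c2001 + c1200 + c0210 + c0201 + c1020 + c0120 + c0021 + c1002 +
      c0102 + c0012 + c1110 + c1101 + c1011 + c0111 = 0) :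
    (c2100 * y0 + c1200 * y1 + (-c0021 - c0120 - c1020) * y2 +
      (c0021 + c0111 + c0120 + c0201 + c0210 + c1020 + c1101 + c1110 + c1200) * y3) *
        (y0 * y1 - y2 * y3) +
    (c2010 * y0 + (c0021 + c0120 + c1020 + c1110) * y1 + c1020 * y2 +
      (c1011 + c2001 + c2010 + c2100) * y3) * (y0 * y2 - y2 * y3) +
    (c2001 * y0 + (-c0021 - c0111 - c0120 - c0201 - c0210 - c1020 - c1110 - c1200) * y1 +
      c1002 * y3) * (y0 * y3 - y2 * y3) +
    (c0210 * y1 + c0120 * y2) * (y1 * y2 - y2 * y3) +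
    (c0201 * y1 + c0102 * y3) * (y1 * y3 - y2 * y3) =
    y0 ^ 2 * y1 * c2100 + y0 ^ 2 * y2 * c2010 + y0 ^ 2 * y3 * c2001 +
      y0 * y1 ^ 2 * c1200 + y1 ^ 2 * y2 * c0210 + y1 ^ 2 * y3 * c0201 +
      y0 * y2 ^ 2 * c1020 + y1 * y2 ^ 2 * c0120 + y2 ^ 2 * y3 * c0021 +
      y0 * y3 ^ 2 * c1002 + y1 * y3 ^ 2 * c0102 + y2 * y3 ^ 2 * c0012 +
      y0 * y1 * y2 * c1110 + y0 * y1 * y3 * c1101 + y0 * y2 * y3 * c1011 +
      y1 * y2 * y3 * c0111 := by
  linear_combination (-y2 * y3 ^ 2) * hsum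

/-- The Pfaffian representation from coordinates adapted to the five points. -/
theorem exists_of_coords [CharZero k] (F : MvPolynomial (Fin 4) k) (hF : F.IsHomogeneous 3)
    (A B D E : Fin 4 → k) (y0 y1 y2 y3 : (Fin 4 → k) →ₗ[k] k)
    (hy : ∀ v, v = y0 v • A + y1 v • B + y2 v • D + y3 v • E)
    (hAAA : tri F A A A = 0) (hBBB : tri F B B B = 0) (hDDD : tri F D D D = 0)
    (hEEE : tri F E E E = 0) (hS : tri F (A + B + D + E) (A + B + D + E) (A + B + D + E) = 0) :
    ∃ M : Matrix (Fin 6) (Fin 6) (MvPolynomial (Fin 4) k), (∀ i j, (M i j).IsHomogeneous 1) ∧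
      M.transpose = -M ∧ (∀ i, M i i = 0) ∧ M.det = F ^ 2 := by
  have : Infinite k := Infinite.of_injective (Nat.cast : ℕ → k) Nat.cast_injective
  have hT := tri_sym F
  have hcube := cube4 hT A B D E
  rw [hAAA, hBBB, hDDD, hEEE] at hcube
  have hsum := hcube 1 1 1 1
  rw [one_smul, one_smul, one_smul, one_smul, hS] at hsum
  clear hAAA hBBB hDDD hEEE hS
  generalize 3 * tri F A A B = c2100 at hcube hsum
  generalize 3 * tri F A A D = c2010 at hcube hsum
  generalize 3 * tri F A A E = c2001 at hcube hsum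
  generalize 3 * tri F A B B = c1200 at hcube hsum
  generalize 3 * tri F B B D = c0210 at hcube hsum
  generalize 3 * tri F B B E = c0201 at hcube hsum
  generalize 3 * tri F A D D = c1020 at hcube hsum
  generalize 3 * tri F B D D = c0120 at hcube hsum
  generalize 3 * tri F D D E = c0021 at hcube hsum
  generalize 3 * tri F A E E = c1002 at hcube hsum
  generalize 3 * tri F B E E = c0102 at hcube hsum
  generalize 3 * tri F D E E = c0012 at hcube hsum
  generalize 6 * tri F A B D = c1110 at hcube hsum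
  generalize 6 * tri F A B E = c1101 at hcube hsum
  generalize 6 * tri F A D E = c1011 at hcube hsum
  generalize 6 * tri F B D E = c0111 at hcube hsum
  have hsum' : c2100 + c2010 + c2001 + c1200 + c0210 + c0201 + c1020 + c0120 + c0021 + c1002 +
      c0102 + c0012 + c1110 + c1101 + c1011 + c0111 = 0 := by
    linear_combination -hsum
  have hx0h : (lin y0).IsHomogeneous 1 := lin_hom y0
  have hx1h : (lin y1).IsHomogeneous 1 := lin_hom y1
  have hx2h : (lin y2).IsHomogeneous 1 := lin_hom y2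
  have hx3h : (lin y3).IsHomogeneous 1 := lin_hom y3
  refine ⟨skewM (lin y0) (lin y1) (lin y2) (lin y3)
    (C c2100 * lin y0 + C c1200 * lin y1 + C (-c0021 - c0120 - c1020) * lin y2 +
      C (c0021 + c0111 + c0120 + c0201 + c0210 + c1020 + c1101 + c1110 + c1200) * lin y3)
    (C c2010 * lin y0 + C (c0021 + c0120 + c1020 + c1110) * lin y1 + C c1020 * lin y2 +
      C (c1011 + c2001 + c2010 + c2100) * lin y3)
    (C c2001 * lin y0 + C (-c0021 - c0111 - c0120 - c0201 - c0210 - c1020 - c1110 - c1200) *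
      lin y1 + C c1002 * lin y3)
    (C c0210 * lin y1 + C c0120 * lin y2)
    (C c0201 * lin y1 + C c0102 * lin y3),
    skewM_prop (fun q : MvPolynomial (Fin 4) k => q.IsHomogeneous 1) (isHomogeneous_zero _ _ _) (fun _ hx => hx.neg)
      _ _ _ _ _ _ _ _ _ hx0h hx1h hx2h hx3h
      ((((C_mul_hom hx0h _).add (C_mul_hom hx1h _)).add (C_mul_hom hx2h _)).add (C_mul_hom hx3h _))
      ((((C_mul_hom hx0h _).add (C_mul_hom hx1h _)).add (C_mul_hom hx2h _)).add (C_mul_hom hx3h _))
      (((C_mul_hom hx0h _).add (C_mul_hom hx1h _)).add (C_mul_hom hx3h _))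
      ((C_mul_hom hx1h _).add (C_mul_hom hx2h _))
      ((C_mul_hom hx1h _).add (C_mul_hom hx3h _)),
    skewM_transpose _ _ _ _ _ _ _ _ _, skewM_diag _ _ _ _ _ _ _ _ _, ?_⟩
  rw [skewM, detM]
  congr 1
  apply MvPolynomial.funext
  intro v
  have hv := hcube (y0 v) (y1 v) (y2 v) (y3 v)
  rw [← hy v, tri_diag hF] at hv
  rw [hv]
  simp only [map_add, map_mul, map_sub, map_neg, eval_C, eval_lin]
  rw [cubic_identity _ _ _ _ _ _ _ _ _ _ _ _ _ _ _ _ _ _ _ _ hsum']
  ring

/-- A cubic vanishing at five points in general position has a linear Pfaffian representation. -/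
theorem exists_pfaffian [CharZero k] (F : MvPolynomial (Fin 4) k) (hF : F.IsHomogeneous 3)
    (p : Fin 5 → (Fin 4 → k)) (hp : ∀ j : Fin 5, eval (p j) F = 0)
    (hli : ∀ j : Fin 5, LinearIndependent k (fun i : Fin 4 => p (j.succAbove i))) :
    ∃ M : Matrix (Fin 6) (Fin 6) (MvPolynomial (Fin 4) k), (∀ i j, (M i j).IsHomogeneous 1) ∧
      M.transpose = -M ∧ (∀ i, M i i = 0) ∧ M.det = F ^ 2 := by
  have : Infinite k := Infinite.of_injective (Nat.cast : ℕ → k) Nat.cast_injective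
  have hT := tri_sym F
  -- the basis
  have hq : LinearIndependent k ![p 0, p 1, p 2, p 3] := by
    have := hli 4
    convert this using 1
    ext i; fin_cases i <;> rfl
  let b := basisOfLinearIndependentOfCardEqFinrank hq (by simp)
  obtain ⟨a, ha⟩ : ∃ a : Fin 4 → k, p 4 = a 0 • p 0 + a 1 • p 1 + a 2 • p 2 + a 3 • p 3 := by
    refine ⟨fun i => b.repr (p 4) i, ?_⟩
    have := b.sum_repr (p 4)
    rw [Fin.sum_univ_four] at this
    simpa [b] using this.symm
  have hrel : ∀ (j : Fin 5) (g : Fin 4 → k), ∑ i, g i • p (j.succAbove i) = 0 → ∀ i, g i = 0 :=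
    fun j g hg => Fintype.linearIndependent_iff.mp (hli j) g hg
  have hneg : (-1 : k) ≠ 0 := by norm_num
  have ha0 : a 0 ≠ 0 := by
    intro h
    have := hrel 0 ![a 1, a 2, a 3, -1] (by
      rw [Fin.sum_univ_four]
      show a 1 • p 1 + a 2 • p 2 + a 3 • p 3 + (-1 : k) • p 4 = 0
      rw [ha, h]; module) 3
    exact hneg this
  have ha1 : a 1 ≠ 0 := by
    intro h
    have := hrel 1 ![a 0, a 2, a 3, -1] (by
      rw [Fin.sum_univ_four]
      show a 0 • p 0 + a 2 • p 2 + a 3 • p 3 + (-1 : k) • p 4 = 0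
      rw [ha, h]; module) 3
    exact hneg this
  have ha2 : a 2 ≠ 0 := by
    intro h
    have := hrel 2 ![a 0, a 1, a 3, -1] (by
      rw [Fin.sum_univ_four]
      show a 0 • p 0 + a 1 • p 1 + a 3 • p 3 + (-1 : k) • p 4 = 0
      rw [ha, h]; module) 3
    exact hneg this
  have ha3 : a 3 ≠ 0 := by
    intro h
    have := hrel 3 ![a 0, a 1, a 2, -1] (by
      rw [Fin.sum_univ_four]
      show a 0 • p 0 + a 1 • p 1 + a 2 • p 2 + (-1 : k) • p 4 = 0
      rw [ha, h]; module) 3
    exact hneg this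
  set A := a 0 • p 0 with hA
  set B := a 1 • p 1 with hB
  set D := a 2 • p 2 with hD
  set E := a 3 • p 3 with hE
  obtain ⟨y0, y1, y2, y3, hy⟩ : ∃ y0 y1 y2 y3 : (Fin 4 → k) →ₗ[k] k,
      ∀ v, v = y0 v • A + y1 v • B + y2 v • D + y3 v • E := by
    refine ⟨(a 0)⁻¹ • b.coord 0, (a 1)⁻¹ • b.coord 1, (a 2)⁻¹ • b.coord 2, (a 3)⁻¹ • b.coord 3, ?_⟩
    intro v
    have h1 := b.sum_repr v
    rw [Fin.sum_univ_four] at h1
    have h2 : b.repr v 0 • p 0 + b.repr v 1 • p 1 + b.repr v 2 • p 2 + b.repr v 3 • p 3 = v := by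
      simpa [b] using h1
    conv_lhs => rw [← h2]
    simp only [LinearMap.smul_apply, Basis.coord_apply, hA, hB, hD, hE, smul_smul, smul_eq_mul]
    congr 1
    · congr 1
      · congr 1
        · congr 1; field_simp
        · congr 1; field_simp
      · congr 1; field_simp
    · congr 1; field_simp
  have hpt : ∀ j, tri F (p j) (p j) (p j) = 0 := fun j => by rw [tri_diag hF]; exact hp j
  have hAAA : tri F A A A = 0 := by
    rw [hA]; simp only [map_smul, LinearMap.smul_apply, smul_eq_mul, hpt]; ring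
  have hBBB : tri F B B B = 0 := by
    rw [hB]; simp only [map_smul, LinearMap.smul_apply, smul_eq_mul, hpt]; ring
  have hDDD : tri F D D D = 0 := by
    rw [hD]; simp only [map_smul, LinearMap.smul_apply, smul_eq_mul, hpt]; ring
  have hEEE : tri F E E E = 0 := by
    rw [hE]; simp only [map_smul, LinearMap.smul_apply, smul_eq_mul, hpt]; ring
  have hS : tri F (A + B + D + E) (A + B + D + E) (A + B + D + E) = 0 := by
    rw [← ha]; exact hpt 4
  exact exists_of_coords F hF A B D E y0 y1 y2 y3 hy hAAA hBBB hDDD hEEE hS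

end K655.Pfaff
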