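import Groth.Agent.Cubic.K655.TritanB
import Groth.Agent.Cubic.K655.PfaffB

set_option autoImplicit false

/-! Factorisation of binary forms, divisibility by linear forms, T-points. -/

namespace K655.Factor

open K656.Trilin K656.Eckardt K655.Plane K655.Through K655.Tritan K655.Pfaff Module

universe u v w

/-- binary cubic forms factor -/
theorem cubic_factor {k : Type u} [Field k] [CharZero k] [IsAlgClosed k] (a b c d : k) :
    ∃ α₁ β₁ α₂ β₂ α₃ β₃ : k, ∀ P Q : k, a * P ^ 3 + b * P ^ 2 * Q + c * P * Q ^ 2 + d * Q ^ 3 =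
      (α₁ * P + β₁ * Q) * (α₂ * P + β₂ * Q) * (α₃ * P + β₃ * Q) := by
  by_cases ha : a = 0
  · obtain ⟨α, β, γ, δ, h⟩ := quad_factor b c d
    refine ⟨0, 1, α, β, γ, δ, fun P Q => ?_⟩
    rw [ha]
    linear_combination Q * h P Q
  · set p : Polynomial k := Polynomial.C a * Polynomial.X ^ 3 +
        Polynomial.C b * Polynomial.X ^ 2 + Polynomial.C c * Polynomial.X
        + Polynomial.C d with hp
    have hdeg : p.degree = 3 := Polynomial.degree_cubic ha
    obtain ⟨t, ht⟩ := IsAlgClosed.exists_root p (by rw [hdeg]; decide)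
    have ht' : a * t ^ 3 + b * t ^ 2 + c * t + d = 0 := by
      have : p.eval t = 0 := ht
      simpa [hp] using this
    obtain ⟨α, β, γ, δ, h⟩ := quad_factor a (b + a * t) (c + b * t + a * t ^ 2)
    refine ⟨1, -t, α, β, γ, δ, fun P Q => ?_⟩
    linear_combination (P - t * Q) * h P Q + Q ^ 3 * ht'

section Poly

open MvPolynomial

variable {k : Type u} [Field k]

/-- A polynomial vanishing on a hyperplane is divisible by the linear form. -/
theorem mem_span_lin [Infinite k] {n : ℕ} {φ : (Fin n → k) →ₗ[k] k} (hφ : φ ≠ 0)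
    (G : MvPolynomial (Fin n) k) (h : ∀ x, φ x = 0 → eval x G = 0) :
    G ∈ Ideal.span {lin φ} := by
  obtain ⟨e, he⟩ : ∃ e, φ e = 1 := by
    obtain ⟨z, hz⟩ : ∃ z, φ z ≠ 0 := by
      by_contra hc
      push Not at hc
      exact hφ (LinearMap.ext hc)
    exact ⟨(φ z)⁻¹ • z, by rw [map_smul, smul_eq_mul, inv_mul_cancel₀ hz]⟩
  let ρ : MvPolynomial (Fin n) k →ₐ[k] MvPolynomial (Fin n) k :=
    aeval fun i => X i - C (e i) * lin φ
  have h0 : ρ G = 0 := by
    apply MvPolynomial.funext
    intro v
    rw [map_zero]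
    have h1 : eval v (ρ G) = eval (v - φ v • e) G := by
      simp only [ρ]
      rw [map_aeval]
      have h1 : (eval v).comp (algebraMap k (MvPolynomial (Fin n) k)) = RingHom.id k := by
        ext a; simp
      rw [h1, coe_eval₂Hom]
      have h2 : (fun i : Fin n => eval v (X i - C (e i) * lin φ)) = v - φ v • e := by
        funext i
        rw [map_sub, map_mul, eval_X, eval_C, eval_lin]
        simp [mul_comm]
      rw [h2]; rfl
    rw [h1]
    apply h
    rw [map_sub, map_smul, he, smul_eq_mul, mul_one, sub_self]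
  have h1 : (Ideal.Quotient.mkₐ k (Ideal.span {lin φ})).comp ρ =
      Ideal.Quotient.mkₐ k (Ideal.span {lin φ}) := by
    apply MvPolynomial.algHom_ext
    intro i
    simp only [ρ, AlgHom.comp_apply, aeval_X, map_sub, map_mul]
    have : Ideal.Quotient.mkₐ k (Ideal.span {lin φ}) (lin φ) = 0 := by
      rw [Ideal.Quotient.mkₐ_eq_mk]
      exact Ideal.Quotient.eq_zero_iff_mem.mpr (Ideal.mem_span_singleton_self _)
    rw [this, mul_zero, sub_zero]
  have h2 := congrArg (fun f : MvPolynomial (Fin n) k →ₐ[k] _ => f G) h1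
  simp only [AlgHom.comp_apply, h0, map_zero] at h2
  exact Ideal.Quotient.eq_zero_iff_mem.mp h2.symm

end Poly

end K655.Factor
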