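import Groth.Agent.Cubic.K656.Eckardt
import Groth.Agent.Fano.K714.Zeros
import Mathlib.LinearAlgebra.Matrix.ToLinearEquiv
import Mathlib.LinearAlgebra.Dimension.StrongRankCondition
import Mathlib.LinearAlgebra.FiniteDimensional.Lemmas

set_option autoImplicit false

/-! Flexes and the Weierstrass normal form of a smooth plane cubic (trilinear form version). -/

namespace K655.Hesse

open K656.Trilin K656.Eckardt Module

universe u v

section Flex

open MvPolynomial

variable {k : Type u} [Field k]

theorem hess_mulVec [CharZero k] {n : ℕ} {f : MvPolynomial (Fin n) k} (hf : f.IsHomogeneous 3)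
    (p w u : Fin n → k) :
    6 * tri f p w u = ∑ j, w j * (Matrix.of fun i j : Fin n =>
      eval p (pderiv i (pderiv j f))).mulVec u j := by
  have h6 : (6 : k) ≠ 0 := by norm_num
  rw [tri_apply, Finset.sum_comm, Finset.mul_sum]
  refine Finset.sum_congr rfl fun j _ => ?_
  simp only [Matrix.mulVec, dotProduct, Matrix.of_apply]
  rw [Finset.mul_sum, Finset.mul_sum]
  refine Finset.sum_congr rfl fun l _ => ?_
  rw [eval_pderiv_pderiv hf, Finset.mul_sum, Finset.sum_mul, Finset.mul_sum]
  refine Finset.sum_congr rfl fun i _ => ?_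
  field_simp

/-- A smooth plane cubic has a flex. -/
theorem exists_flex [CharZero k] [IsAlgClosed k] {f : MvPolynomial (Fin 3) k}
    (hf : f.IsHomogeneous 3) (hsm : Smooth (tri f)) :
    ∃ p u : Fin 3 → k, p ≠ 0 ∧ u ∉ Submodule.span k {p} ∧ tri f p p p = 0 ∧ tri f p p u = 0 ∧
      tri f p u u = 0 := by
  have hdd : ∀ i j : Fin 3, (pderiv i (pderiv j f)).IsHomogeneous 1 :=
    fun i j => (hf.pderiv (i := j)).pderiv
  set h : MvPolynomial (Fin 3) k := Matrix.det (Matrix.of fun i j : Fin 3 =>
    pderiv i (pderiv j f)) with hh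
  have hh3 : h.IsHomogeneous 3 := by
    rw [hh, Matrix.det_fin_three]
    simp only [Matrix.of_apply]
    have hm : ∀ a b c d e g : Fin 3, (pderiv a (pderiv b f) * pderiv c (pderiv d f) *
        pderiv e (pderiv g f)).IsHomogeneous 3 := fun a b c d e g =>
      ((hdd a b).mul (hdd c d)).mul (hdd e g)
    exact (((((hm _ _ _ _ _ _).sub (hm _ _ _ _ _ _)).sub (hm _ _ _ _ _ _)).add
      (hm _ _ _ _ _ _)).add (hm _ _ _ _ _ _)).sub (hm _ _ _ _ _ _)
  obtain ⟨p, hp, hz⟩ := K714.Zeros.exists_ne_zero (k := k) (N := 3) (ι := Fin 2) (by simp)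
    (fun _ => 3) (fun _ => by norm_num) ![f, h] (by
      intro i; fin_cases i
      · exact hf
      · exact hh3)
  have hpf : eval p f = 0 := hz 0
  have hph : eval p h = 0 := hz 1
  have hdet : Matrix.det (Matrix.of fun i j : Fin 3 => eval p (pderiv i (pderiv j f))) = 0 := by
    rw [← hph, hh, RingHom.map_det]
    rfl
  obtain ⟨u, hu, hu0⟩ := Matrix.exists_mulVec_eq_zero_iff.mpr hdet
  have hpol : ∀ w, tri f p w u = 0 := by
    intro w
    have h6 : (6 : k) ≠ 0 := by norm_num
    have := hess_mulVec hf p w u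
    rw [hu0] at this
    simp only [Pi.zero_apply, mul_zero, Finset.sum_const_zero] at this
    exact (mul_eq_zero.mp this).resolve_left h6
  have hppp : tri f p p p = 0 := by rw [tri_diag hf]; exact hpf
  refine ⟨p, u, hp, ?_, hppp, hpol p, ?_⟩
  · intro hmem
    obtain ⟨c, hc⟩ := Submodule.mem_span_singleton.mp hmem
    have hc0 : c ≠ 0 := by rintro rfl; rw [zero_smul] at hc; exact hu hc.symm
    obtain ⟨w, hw⟩ := hsm p hp hppp
    apply hw
    have h1 := hpol w
    rw [← hc, map_smul, smul_eq_mul] at h1
    have h2 := (mul_eq_zero.mp h1).resolve_left hc0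
    rw [(tri_sym f).s23] at h2
    exact h2
  · exact hpol u

end Flex

variable {k : Type u} [Field k] {V : Type v} [AddCommGroup V] [Module k V]
variable {T : V →ₗ[k] V →ₗ[k] V →ₗ[k] k}

/-- expansion of the cube of a combination of three vectors. -/
theorem cube3 (hT : IsSym3 T) (u p w : V) (x y z : k) :
    T (x • u + y • p + z • w) (x • u + y • p + z • w) (x • u + y • p + z • w) =
      x ^ 3 * T u u u + y ^ 3 * T p p p + z ^ 3 * T w w w + 3 * x ^ 2 * y * T p u u +
      3 * x ^ 2 * z * T u u w + 3 * x * y ^ 2 * T p p u + 3 * y ^ 2 * z * T p p w +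
      3 * x * z ^ 2 * T u w w + 3 * y * z ^ 2 * T p w w + 6 * x * y * z * T p u w := by
  rw [hT.cube_add (x • u + y • p) (z • w), hT.cube_add (x • u) (y • p)]
  simp only [map_add, map_smul, LinearMap.add_apply, LinearMap.smul_apply, smul_eq_mul]
  rw [hT.rot' u u p, hT.rot u p p, hT.s12 u p w]
  ring

/-- The Weierstrass normal form: vectors `u, p, w`. -/
theorem exists_weierstrass [CharZero k] [IsAlgClosed k] [FiniteDimensional k V]
    (hV : finrank k V = 3) (hT : IsSym3 T) (hsm : Smooth T) {p u : V} (hp : p ≠ 0)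
    (hu : u ∉ Submodule.span k {p}) (hppp : T p p p = 0) (hppu : T p p u = 0)
    (hpuu : T p u u = 0) :
    ∃ (u w : V) (x y z : V →ₗ[k] k), (∀ v, v = x v • u + y v • p + z v • w) ∧
      T u u u ≠ 0 ∧ T p p w ≠ 0 ∧ T p p u = 0 ∧ T p u u = 0 ∧ T p u w = 0 ∧ T p w w = 0 ∧
      T u u w = 0 := by
  obtain ⟨w, hw⟩ := hsm p hp hppp
  -- the line is not on the curve
  have huuu : T u u u ≠ 0 := by
    intro h0
    -- three vectors span
    have hli : LinearIndependent k ![p, u, w] := by
      rw [Fintype.linearIndependent_iff]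
      intro g hg
      rw [Fin.sum_univ_three] at hg
      simp only [Matrix.cons_val_zero, Matrix.cons_val_one, Matrix.cons_val_two,
        Matrix.head_cons, Matrix.tail_cons, Matrix.cons_val] at hg
      have h1 := congrArg (T p p) hg
      simp only [map_add, map_smul, smul_eq_mul, hppp, hppu, mul_zero, zero_add, map_zero] at h1
      have h2 : g 2 = 0 := (mul_eq_zero.mp h1).resolve_right hw
      rw [h2, zero_smul, add_zero] at hg
      have h3 : g 1 = 0 := by
        by_contra h3
        apply hu
        rw [Submodule.mem_span_singleton]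
        refine ⟨-((g 1)⁻¹ * g 0), ?_⟩
        have : g 1 • u = -(g 0 • p) := by rw [eq_neg_iff_add_eq_zero, add_comm]; exact hg
        have h4 : u = (g 1)⁻¹ • (g 1 • u) := by rw [smul_smul, inv_mul_cancel₀ h3, one_smul]
        rw [h4, this]; module
      rw [h3, zero_smul, add_zero] at hg
      have h5 : g 0 = 0 := (smul_eq_zero.mp hg).resolve_right hp
      intro i
      fin_cases i
      · exact h5
      · exact h3
      · exact h2
    let b := basisOfLinearIndependentOfCardEqFinrank hli (by simp [hV])
    have hb : ∀ v, v = b.repr v 0 • p + b.repr v 1 • u + b.repr v 2 • w := by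
      intro v
      have := b.sum_repr v
      rw [Fin.sum_univ_three] at this
      simpa [b] using this.symm
    -- a root
    set q : Polynomial k := Polynomial.C (T p p w) * Polynomial.X ^ 2 +
      Polynomial.C (2 * T p u w) * Polynomial.X + Polynomial.C (T u u w) with hq
    have hdeg : q.degree = 2 := Polynomial.degree_quadratic hw
    obtain ⟨t, ht⟩ := IsAlgClosed.exists_root q (by rw [hdeg]; decide)
    have ht' : T p p w * t ^ 2 + 2 * T p u w * t + T u u w = 0 := by
      have : q.eval t = 0 := ht
      simpa [hq] using this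
    have hv0 : u + t • p ≠ 0 := by
      intro h; apply hu
      rw [Submodule.mem_span_singleton]
      exact ⟨-t, by rw [neg_smul]; exact (eq_neg_of_add_eq_zero_left h).symm⟩
    have e0 : T (u + t • p) (u + t • p) (u + t • p) = 0 := by
      rw [hT.cube_add_smul, h0, hT.rot' u u p, hpuu, hT.rot u p p, hppu, hppp]; ring
    obtain ⟨v, hv⟩ := hsm _ hv0 e0
    apply hv
    rw [hb v, hT.sq_add_smul]
    simp only [map_add, map_smul, smul_eq_mul]
    rw [h0, hppu, hppp, hT.rot' u u p, hpuu, hT.rot u p p, hppu, hT.rot' u p u, hT.s12 u u p,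
      hT.rot' u u p, hpuu, hT.s12 u p w]
    linear_combination (b.repr v 2) * ht'
  -- normalise
  have hpw : T p p w ≠ 0 := hw
  set c1 : k := -(T p u w) / T p p w with hc1
  set u1 : V := u + c1 • p with hu1
  have a1 : T p p u1 = 0 := by rw [hu1]; simp [hppu, hppp]
  have a2 : T p u1 u1 = 0 := by
    rw [hu1]; simp only [map_add, map_smul, LinearMap.add_apply, LinearMap.smul_apply, smul_eq_mul]
    rw [hpuu, hT.s23 p u p, hppu, hppp]; ring
  have a3 : T p u1 w = 0 := by
    rw [hu1, hc1]; simp only [map_add, map_smul, LinearMap.add_apply, LinearMap.smul_apply, smul_eq_mul]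
    field_simp; ring
  have a4 : T u1 u1 u1 = T u u u := by
    rw [hu1, hT.cube_add_smul, hT.rot' u u p, hpuu, hT.rot u p p, hppu, hppp]; ring
  have a5 : T u1 u1 u1 ≠ 0 := by rw [a4]; exact huuu
  set c2 : k := -(T p w w) / (2 * T p p w) with hc2
  set d2 : k := -(T u1 u1 w) / (T u1 u1 u1) with hd2
  set w1 : V := w + c2 • p + d2 • u1 with hw1
  have b1 : T p p w1 = T p p w := by rw [hw1]; simp [a1, hppp]
  have b2 : T p u1 w1 = 0 := by
    rw [hw1]; simp only [map_add, map_smul, smul_eq_mul]
    rw [a3, hT.s23 p u1 p, a1, a2]; ring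
  have b3 : T p w1 w1 = 0 := by
    have h1 : T p w1 w1 = T p w w + 2 * c2 * T p p w := by
      rw [hw1]
      simp only [map_add, map_smul, LinearMap.add_apply, LinearMap.smul_apply, smul_eq_mul]
      rw [hT.s23 p w p, hT.s23 p u1 p, a1, hT.s23 p w u1, a3, hppp, a2]; ring
    rw [h1, hc2]; field_simp; ring
  have b4 : T u1 u1 w1 = 0 := by
    have h1 : T u1 u1 w1 = T u1 u1 w + d2 * T u1 u1 u1 := by
      rw [hw1]
      simp only [map_add, map_smul, smul_eq_mul]
      rw [hT.rot' u1 u1 p, a2]; ring
    rw [h1, hd2]; field_simp; ring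
  have hpw1 : T p p w1 ≠ 0 := by rw [b1]; exact hpw
  have hli : LinearIndependent k ![u1, p, w1] := by
    rw [Fintype.linearIndependent_iff]
    intro g hg
    rw [Fin.sum_univ_three] at hg
    simp only [Matrix.cons_val_zero, Matrix.cons_val_one, Matrix.cons_val_two,
      Matrix.head_cons, Matrix.tail_cons, Matrix.cons_val] at hg
    have h2 : g 2 = 0 := by
      have h1 := congrArg (T p p) hg
      simp only [map_add, map_smul, smul_eq_mul, hppp, a1, mul_zero, zero_add, map_zero] at h1
      exact (mul_eq_zero.mp h1).resolve_right hpw1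
    have h0 : g 0 = 0 := by
      have h1 := congrArg (T u1 u1) hg
      simp only [map_add, map_smul, smul_eq_mul, b4, mul_zero, add_zero, map_zero,
        hT.rot' u1 u1 p, a2] at h1
      exact (mul_eq_zero.mp h1).resolve_right a5
    have h3 : g 1 = 0 := by
      have h1 := congrArg (T p w1) hg
      simp only [map_add, map_smul, smul_eq_mul, b3, mul_zero, add_zero, map_zero,
        hT.s23 p w1 u1, b2, hT.s23 p w1 p, zero_add] at h1
      exact (mul_eq_zero.mp h1).resolve_right hpw1
    intro i
    fin_cases i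
    · exact h0
    · exact h3
    · exact h2
  let b := basisOfLinearIndependentOfCardEqFinrank hli (by simp [hV])
  refine ⟨u1, w1, b.coord 0, b.coord 1, b.coord 2, ?_, a5, hpw1, a1, a2, b2, b3, b4⟩
  intro v
  have := b.sum_repr v
  rw [Fin.sum_univ_three] at this
  simpa [b] using this.symm

end K655.Hesse
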