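import Groth.Agent.Cubic.K655.Hesse
import Mathlib.RingTheory.RootsOfUnity.AlgebraicallyClosed

set_option autoImplicit false

/-! From the Weierstrass normal form to the Hesse normal form. -/

namespace K655.HesseB

open K656.Trilin K656.Eckardt Module K655.Hesse

universe u v

variable {k : Type u} [Field k]

theorem hesse_factor [CharZero k] (ω A B C : k) (hω : ω ^ 2 + ω + 1 = 0) :
    ((A + B + C) / 3) ^ 3 + ((A + ω ^ 2 * B + ω * C) / 3) ^ 3 +
      ((A + ω * B + ω ^ 2 * C) / 3) ^ 3 -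
      3 * ((A + B + C) / 3) * ((A + ω ^ 2 * B + ω * C) / 3) * ((A + ω * B + ω ^ 2 * C) / 3) =
      A * B * C := by
  linear_combination ((1/27)*ω^4*A^0*B^3*C^0 + (1/27)*ω^4*A^0*B^0*C^3 + (1/9)*ω^3*A^0*B^2*C^1 +
    (1/9)*ω^3*A^0*B^1*C^2 + (-1/27)*ω^3*A^0*B^3*C^0 + (-1/27)*ω^3*A^0*B^0*C^3 +
    (1/9)*ω^2*A^1*B^2*C^0 + (1/9)*ω^2*A^1*B^0*C^2 + (-1/9)*ω^2*A^1*B^1*C^1 +
    (-1/9)*ω^2*A^0*B^2*C^1 + (-1/9)*ω^2*A^0*B^1*C^2 + (5/9)*ω^1*A^1*B^1*C^1 +
    (-1/27)*ω^1*A^0*B^0*C^3 + (-1/27)*ω^1*A^0*B^3*C^0 + (-2/9)*ω^1*A^1*B^2*C^0 +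
    (-2/9)*ω^1*A^1*B^0*C^2 + (-1/9)*ω^1*A^0*B^1*C^2 + (-1/9)*ω^1*A^0*B^2*C^1 +
    (-7/9)*ω^0*A^1*B^1*C^1 + (1/9)*ω^0*A^1*B^2*C^0 + (1/9)*ω^0*A^1*B^0*C^2 +
    (1/27)*ω^0*A^0*B^0*C^3 + (1/27)*ω^0*A^0*B^3*C^0 + (1/9)*ω^0*A^0*B^1*C^2 +
    (1/9)*ω^0*A^0*B^2*C^1) * hω

theorem exists_omega [CharZero k] [IsAlgClosed k] : ∃ ω : k, ω ^ 2 + ω + 1 = 0 := by
  set q : Polynomial k := Polynomial.C 1 * Polynomial.X ^ 2 +
      Polynomial.C 1 * Polynomial.X + Polynomial.C 1 with hq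
  have hdeg : q.degree = 2 := Polynomial.degree_quadratic one_ne_zero
  obtain ⟨t, ht⟩ := IsAlgClosed.exists_root q (by rw [hdeg]; decide)
  refine ⟨t, ?_⟩
  have : q.eval t = 0 := ht
  simpa [hq] using this

/-- perfect squares of binary quadratic forms -/
theorem exists_sqrt [CharZero k] [IsAlgClosed k] (A B C : k) (h : B ^ 2 = 4 * A * C) :
    ∃ m n : k, m ^ 2 = A ∧ 2 * m * n = B ∧ n ^ 2 = C := by
  have h2 : (2 : k) ≠ 0 := two_ne_zero
  obtain ⟨m, hm⟩ := IsAlgClosed.exists_pow_nat_eq A (n := 2) (by norm_num)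
  by_cases hm0 : m = 0
  · subst hm0
    obtain ⟨n, hn⟩ := IsAlgClosed.exists_pow_nat_eq C (n := 2) (by norm_num)
    refine ⟨0, n, hm, ?_, hn⟩
    have hA : A = 0 := by rw [← hm]; ring
    rw [hA] at h
    have : B ^ 2 = 0 := by rw [h]; ring
    rw [pow_eq_zero_iff (by norm_num)] at this
    rw [this]; ring
  · refine ⟨m, B / (2 * m), hm, ?_, ?_⟩
    · field_simp
    · have h4 : (4 : k) ≠ 0 := by norm_num
      field_simp
      rw [h, hm]; ring

variable {V : Type v} [AddCommGroup V] [Module k V]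
variable {T : V →ₗ[k] V →ₗ[k] V →ₗ[k] k}

theorem exists_hesse [CharZero k] [IsAlgClosed k] [FiniteDimensional k V]
    (hT : IsSym3 T) (hsm : Smooth T) {u p w : V}
    (x y z : V →ₗ[k] k) (hv : ∀ v, v = x v • u + y v • p + z v • w)
    (hppp : T p p p = 0) (hα : T u u u ≠ 0) (hβ : T p p w ≠ 0) (hppu : T p p u = 0)
    (hpuu : T p u u = 0) (hpuw : T p u w = 0) (hpww : T p w w = 0) (huuw : T u u w = 0) :
    ∃ (X Y Z : V →ₗ[k] k) (κ c : k), κ ^ 3 ≠ 1 ∧ c ≠ 0 ∧ ∀ v, T v v v =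
      c * (X v ^ 3 + Y v ^ 3 + Z v ^ 3 - 3 * κ * (X v * Y v * Z v)) := by
  have h3 : (3 : k) ≠ 0 := by norm_num
  have h2 : (2 : k) ≠ 0 := by norm_num
  set α := T u u u with hαd
  set β := T p p w with hβd
  set a := T u w w with had
  set b := T w w w with hbd
  have hform : ∀ v, T v v v = α * x v ^ 3 + 3 * β * y v ^ 2 * z v + 3 * a * x v * z v ^ 2 +
      b * z v ^ 3 := by
    intro v
    have := cube3 hT u p w (x v) (y v) (z v)
    rw [← hv v] at this
    rw [this, hppp, hppu, hpuu, hpuw, hpww, huuw]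
    ring
  -- singular points
  have hsing : ∀ ξ ζ : k, ζ ≠ 0 → ξ ^ 2 * α + ζ ^ 2 * a = 0 → 2 * ξ * a + ζ * b = 0 → False := by
    intro ξ ζ hζ e1 e2
    have hv0 : ξ • u + ζ • w ≠ 0 := by
      intro h
      have := congrArg (T p p) h
      simp only [map_add, map_smul, smul_eq_mul, hppu, mul_zero, zero_add, map_zero] at this
      exact (mul_ne_zero hζ hβ) this
    have f1 : T (ξ • u + ζ • w) (ξ • u + ζ • w) u = 0 := by
      rw [hT.sq_smul_add_smul, hT.s23 u w u, huuw, hT.rot w w u, hT.rot w u w]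
      linear_combination e1
    have f2 : T (ξ • u + ζ • w) (ξ • u + ζ • w) w = 0 := by
      rw [hT.sq_smul_add_smul, huuw]
      linear_combination ζ * e2
    have f3 : T (ξ • u + ζ • w) (ξ • u + ζ • w) p = 0 := by
      rw [hT.sq_smul_add_smul, hT.rot' u u p, hpuu, hT.rot' u w p, hpuw, hT.rot' w w p, hpww]
      ring
    have f4 : ∀ v, T (ξ • u + ζ • w) (ξ • u + ζ • w) v = 0 := by
      intro v
      rw [hv v, map_add, map_add, map_smul, map_smul, map_smul, f1, f2, f3]; simp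
    obtain ⟨v, hv⟩ := hsm _ hv0 (f4 _)
    exact hv (f4 v)
  -- the quartic
  obtain ⟨s, hs⟩ : ∃ s : k, (3 * a - 3 * α * s ^ 2) ^ 2 = 4 * (3 * α * s) * (b + α * s ^ 3) := by
    set q : Polynomial k := Polynomial.C (-3 * α ^ 2) * Polynomial.X ^ 4 +
      (Polynomial.C (-18 * a * α) * Polynomial.X ^ 2 +
      Polynomial.C (-12 * α * b) * Polynomial.X + Polynomial.C (9 * a ^ 2)) with hq
    have hlead : (-3 * α ^ 2) ≠ 0 := by
      have : α ^ 2 ≠ 0 := pow_ne_zero _ hα
      have h3' : (-3 : k) ≠ 0 := by norm_num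
      exact mul_ne_zero h3' this
    have hdeg : q.degree = 4 := by
      rw [hq, Polynomial.degree_add_eq_left_of_degree_lt]
      · exact Polynomial.degree_C_mul_X_pow 4 hlead
      · rw [Polynomial.degree_C_mul_X_pow 4 hlead]
        exact lt_of_le_of_lt (Polynomial.degree_quadratic_le) (by decide)
    obtain ⟨t, ht⟩ := IsAlgClosed.exists_root q (by rw [hdeg]; decide)
    have ht' : -3 * α ^ 2 * t ^ 4 + (-18 * a * α * t ^ 2 + -12 * α * b * t + 9 * a ^ 2) = 0 := by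
      have : q.eval t = 0 := ht
      simpa [hq] using this
    exact ⟨t, by linear_combination ht'⟩
  obtain ⟨m, n, hm, hmn, hn⟩ := exists_sqrt _ _ _ hs
  by_cases hm0 : m = 0
  · -- the Fermat case
    have hs0 : s = 0 := by
      rw [hm0] at hm
      have : 3 * α * s = 0 := by rw [← hm]; ring
      exact (mul_eq_zero.mp this).resolve_left (mul_ne_zero h3 hα)
    have ha0 : a = 0 := by
      rw [hm0, hs0] at hmn
      have : 3 * a = 0 := by linear_combination -hmn
      exact (mul_eq_zero.mp this).resolve_left h3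
    have hb0 : b ≠ 0 := by
      intro hb0
      exact hsing 0 1 one_ne_zero (by rw [ha0]; ring) (by rw [hb0]; ring)
    obtain ⟨δ, hδ⟩ := IsAlgClosed.exists_pow_nat_eq (β / b) (n := 2) (by norm_num)
    obtain ⟨r, hr⟩ := IsAlgClosed.exists_pow_nat_eq α (n := 3) (by norm_num)
    obtain ⟨t, ht⟩ := IsAlgClosed.exists_pow_nat_eq (b / 2) (n := 3) (by norm_num)
    refine ⟨r • x, t • (z + δ • y), t • (z - δ • y), 0, 1, by norm_num, one_ne_zero, ?_⟩
    intro v
    rw [hform, ha0]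
    simp only [LinearMap.smul_apply, LinearMap.add_apply, LinearMap.sub_apply, smul_eq_mul]
    have hδ' : b * δ ^ 2 = β := by rw [hδ]; field_simp
    have ht' : 2 * t ^ 3 = b := by rw [ht]; field_simp
    rw [← hr, ← hδ', ← ht']
    ring
  · -- the general case
    obtain ⟨ω, hω⟩ := exists_omega (k := k)
    obtain ⟨γ, hγ⟩ := IsAlgClosed.exists_pow_nat_eq (-(3 * β)) (n := 2) (by norm_num)
    obtain ⟨l, hl⟩ : ∃ l : k, l = -(n + m * s) / m := ⟨_, rfl⟩
    have hn' : n = -(m * (l + s)) := by rw [hl]; field_simp; ring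
    have hα' : 3 * α * s = m ^ 2 := hm.symm
    have ha' : 3 * a = - m ^ 2 * (2 * l + s) := by
      have : 3 * a = 2 * m * n + 3 * α * s * s := by rw [hmn]; ring
      rw [this, hα', hn']; ring
    have hb' : 3 * b = m ^ 2 * (3 * l ^ 2 + 6 * l * s + 2 * s ^ 2) := by
      have : 3 * b = 3 * n ^ 2 - 3 * α * s * s ^ 2 := by rw [hn]; ring
      rw [this, hα', hn']; ring
    have hl0 : l ≠ 0 := by
      intro hl0
      rw [hl0] at ha' hb'
      apply hsing s 1 one_ne_zero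
      · apply mul_left_cancel₀ h3
        linear_combination s * hα' + ha'
      · apply mul_left_cancel₀ h3
        linear_combination 2 * s * ha' + hb'
    have hne : 4 * m ^ 2 + 27 * α * l ≠ 0 := by
      intro h0
      have hs9 : m ^ 2 * (4 * s + 9 * l) = 0 := by
        linear_combination s * h0 - 9 * l * hα'
      have hs9' : 4 * s + 9 * l = 0 :=
        (mul_eq_zero.mp hs9).resolve_left (pow_ne_zero _ hm0)
      have hs' : s = -(9 / 4) * l := by
        have h4 : (4 : k) ≠ 0 := by norm_num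
        apply mul_left_cancel₀ h4
        linear_combination hs9'
      have hαl : α = - (4 * m ^ 2) / (27 * l) := by
        have h27 : (27 : k) ≠ 0 := by norm_num
        field_simp
        linear_combination h0
      have haa : a = m ^ 2 * l / 12 := by
        apply mul_left_cancel₀ h3
        rw [ha', hs']; ring
      have hbb : b = - m ^ 2 * l ^ 2 / 8 := by
        apply mul_left_cancel₀ h3
        rw [hb', hs']; ring
      apply hsing (3 / 4) (1 / l) (one_div_ne_zero hl0)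
      · rw [hαl, haa]; field_simp; ring
      · rw [haa, hbb]; field_simp; ring
    have hm2 : 4 * m ^ 2 ≠ 0 := mul_ne_zero (by norm_num) (pow_ne_zero _ hm0)
    obtain ⟨κ, hκ⟩ := IsAlgClosed.exists_pow_nat_eq ((4 * m ^ 2) / (4 * m ^ 2 + 27 * α * l))
      (n := 3) (by norm_num)
    have hκ0 : κ ≠ 0 := by
      rintro rfl
      have : (4 * m ^ 2) / (4 * m ^ 2 + 27 * α * l) ≠ 0 := div_ne_zero hm2 hne
      apply this
      rw [← hκ]; ring
    have hκ1 : κ ^ 3 ≠ 1 := by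
      rw [hκ]
      intro h
      rw [div_eq_one_iff_eq hne] at h
      have : 27 * α * l = 0 := by linear_combination -h
      have h27 : (27 : k) ≠ 0 := by norm_num
      exact (mul_ne_zero (mul_ne_zero h27 hα) hl0) this
    -- the linear forms
    set A : V →ₗ[k] k := l • z with hA
    set B : V →ₗ[k] k := (ω ^ 2 / (2 * m)) • (m • x + n • z - γ • y) with hB
    set C : V →ₗ[k] k := (ω / (2 * m)) • (m • x + n • z + γ • y) with hC
    refine ⟨κ⁻¹ • ((1 / 3 : k) • (A + ω • B + ω ^ 2 • C)), (1 / 3 : k) • (A + B + C),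
      (1 / 3 : k) • (A + ω ^ 2 • B + ω • C), κ, 4 * m ^ 2 / l, hκ1, div_ne_zero hm2 hl0, ?_⟩
    intro v
    have hfac := hesse_factor ω (A v) (B v) (C v) hω
    have hω3 : ω ^ 3 = 1 := by linear_combination (ω - 1) * hω
    have hL : (A v + ω * B v + ω ^ 2 * C v) / 3 = (x v - s * z v) / 3 := by
      congr 1
      simp only [hA, hB, hC, LinearMap.smul_apply, LinearMap.add_apply, LinearMap.sub_apply,
        smul_eq_mul, hn']
      field_simp
      linear_combination (x v * 2 * m  - 2 * m * (l + s) * z v) * hω3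
    have hABC : A v * B v * C v = l / (4 * m ^ 2) * (z v * ((m * x v + n * z v) ^ 2 -
        γ ^ 2 * y v ^ 2)) := by
      simp only [hA, hB, hC, LinearMap.smul_apply, LinearMap.add_apply, LinearMap.sub_apply,
        smul_eq_mul]
      field_simp
      linear_combination (4 * (z v) * ((m * x v + n * z v) ^ 2 -
        γ ^ 2 * y v ^ 2)) * hω3
    simp only [LinearMap.smul_apply, LinearMap.add_apply, smul_eq_mul]
    set YY := (A v + B v + C v) / 3 with hYY
    set ZZ := (A v + ω ^ 2 * B v + ω * C v) / 3 with hZZ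
    rw [hL] at hfac
    have e1 : 1 / 3 * (A v + ω * B v + ω ^ 2 * C v) = (x v - s * z v) / 3 := by
      rw [← hL]; ring
    have e2 : 1 / 3 * (A v + B v + C v) = YY := by rw [hYY]; ring
    have e3 : 1 / 3 * (A v + ω ^ 2 * B v + ω * C v) = ZZ := by rw [hZZ]; ring
    rw [e1, e2, e3, hform]
    have hκ' : κ ^ 3 * (4 * m ^ 2 + 27 * α * l) = 4 * m ^ 2 := by
      rw [hκ]; field_simp
    have goal1 : 4 * m ^ 2 / l * ((κ⁻¹ * ((x v - s * z v) / 3)) ^ 3 + YY ^ 3 + ZZ ^ 3 -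
        3 * κ * (κ⁻¹ * ((x v - s * z v) / 3) * YY * ZZ)) =
        4 * m ^ 2 / l * (A v * B v * C v + (κ⁻¹ ^ 3 - 1) * ((x v - s * z v) / 3) ^ 3) := by
      congr 1
      have hκκ : κ * κ⁻¹ = 1 := mul_inv_cancel₀ hκ0
      linear_combination hfac - 3 * ((x v - s * z v) / 3) * YY * ZZ * hκκ
    rw [goal1, hABC]
    have hκi : κ⁻¹ ^ 3 = (4 * m ^ 2 + 27 * α * l) / (4 * m ^ 2) := by
      rw [inv_pow, hκ, inv_div]
    rw [hκi, hγ]
    have ha2 : a = - m ^ 2 * (2 * l + s) / 3 := by field_simp; linear_combination ha'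
    have hb2 : b = m ^ 2 * (3 * l ^ 2 + 6 * l * s + 2 * s ^ 2) / 3 := by
      field_simp; linear_combination hb'
    rw [ha2, hb2, hn']
    have hm2' : m ^ 2 = 3 * α * s := hm
    field_simp
    rw [hm2']
    ring

end K655.HesseB
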