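import Groth.Agent.Cubic.K656.Trilin
import Mathlib.LinearAlgebra.Matrix.Determinant.Basic
import Mathlib.LinearAlgebra.Dimension.StrongRankCondition
import Mathlib.LinearAlgebra.FiniteDimensional.Lemmas

set_option autoImplicit false

/-! Linear Pfaffian representation of a cubic through five points in general position. -/

namespace K655.Pfaff

open K656.Trilin Module

universe u v

theorem det4 {R : Type*} [CommRing R] (A : Matrix (Fin 4) (Fin 4) R) :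
  A.det = A 0 0 * (A 1 1 * (A 2 2 * A 3 3 - A 2 3 * A 3 2) - A 1 2 * (A 2 1 * A 3 3 - A 2 3 * A 3 1) + A 1 3 * (A 2 1 * A 3 2 - A 2 2 * A 3 1))
   - A 0 1 * (A 1 0 * (A 2 2 * A 3 3 - A 2 3 * A 3 2) - A 1 2 * (A 2 0 * A 3 3 - A 2 3 * A 3 0) + A 1 3 * (A 2 0 * A 3 2 - A 2 2 * A 3 0))
   + A 0 2 * (A 1 0 * (A 2 1 * A 3 3 - A 2 3 * A 3 1) - A 1 1 * (A 2 0 * A 3 3 - A 2 3 * A 3 0) + A 1 3 * (A 2 0 * A 3 1 - A 2 1 * A 3 0))
   - A 0 3 * (A 1 0 * (A 2 1 * A 3 2 - A 2 2 * A 3 1) - A 1 1 * (A 2 0 * A 3 2 - A 2 2 * A 3 0) + A 1 2 * (A 2 0 * A 3 1 - A 2 1 * A 3 0)) := by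
  rw [Matrix.det_succ_row_zero]
  simp only [Fin.sum_univ_four, Matrix.det_fin_three, Matrix.submatrix_apply]
  simp [Fin.succAbove, Fin.lt_def]
  ring

theorem det5 {R : Type*} [CommRing R] (A : Matrix (Fin 5) (Fin 5) R) :
  A.det = A 0 0 * (A.submatrix ![1,2,3,4] ![1,2,3,4]).det - A 0 1 * (A.submatrix ![1,2,3,4] ![0,2,3,4]).det
    + A 0 2 * (A.submatrix ![1,2,3,4] ![0,1,3,4]).det - A 0 3 * (A.submatrix ![1,2,3,4] ![0,1,2,4]).det
    + A 0 4 * (A.submatrix ![1,2,3,4] ![0,1,2,3]).det := by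
  rw [Matrix.det_succ_row_zero]
  have h1 : (Fin.succ : Fin 4 → Fin 5) = ![1,2,3,4] := by decide
  have h2 : (Fin.succAbove (0 : Fin 5)) = ![1,2,3,4] := by decide
  have h3 : (Fin.succAbove (1 : Fin 5)) = ![0,2,3,4] := by decide
  have h4 : (Fin.succAbove (2 : Fin 5)) = ![0,1,3,4] := by decide
  have h5 : (Fin.succAbove (3 : Fin 5)) = ![0,1,2,4] := by decide
  have h6 : (Fin.succAbove (4 : Fin 5)) = ![0,1,2,3] := by decide
  rw [Fin.sum_univ_five, h1, h2, h3, h4, h5, h6]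
  simp only [Fin.val_zero, Fin.val_one, Fin.val_two]
  have e3 : ((3 : Fin 5) : ℕ) = 3 := rfl
  have e4 : ((4 : Fin 5) : ℕ) = 4 := rfl
  rw [e3, e4]
  ring
theorem det6 {R : Type*} [CommRing R] (A : Matrix (Fin 6) (Fin 6) R) :
  A.det = A 0 0 * (A.submatrix ![1,2,3,4,5] ![1,2,3,4,5]).det - A 0 1 * (A.submatrix ![1,2,3,4,5] ![0,2,3,4,5]).det
    + A 0 2 * (A.submatrix ![1,2,3,4,5] ![0,1,3,4,5]).det - A 0 3 * (A.submatrix ![1,2,3,4,5] ![0,1,2,4,5]).det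
    + A 0 4 * (A.submatrix ![1,2,3,4,5] ![0,1,2,3,5]).det - A 0 5 * (A.submatrix ![1,2,3,4,5] ![0,1,2,3,4]).det := by
  rw [Matrix.det_succ_row_zero]
  have h1 : (Fin.succ : Fin 5 → Fin 6) = ![1,2,3,4,5] := by decide
  have h2 : (Fin.succAbove (0 : Fin 6)) = ![1,2,3,4,5] := by decide
  have h3 : (Fin.succAbove (1 : Fin 6)) = ![0,2,3,4,5] := by decide
  have h4 : (Fin.succAbove (2 : Fin 6)) = ![0,1,3,4,5] := by decide
  have h5 : (Fin.succAbove (3 : Fin 6)) = ![0,1,2,4,5] := by decide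
  have h6 : (Fin.succAbove (4 : Fin 6)) = ![0,1,2,3,5] := by decide
  have h7 : (Fin.succAbove (5 : Fin 6)) = ![0,1,2,3,4] := by decide
  rw [Fin.sum_univ_six, h1, h2, h3, h4, h5, h6, h7]
  simp only [Fin.val_zero, Fin.val_one, Fin.val_two]
  have e3 : ((3 : Fin 6) : ℕ) = 3 := rfl
  have e4 : ((4 : Fin 6) : ℕ) = 4 := rfl
  have e5 : ((5 : Fin 6) : ℕ) = 5 := rfl
  rw [e3, e4, e5]
  ring

theorem detM {R : Type*} [CommRing R] (x0 x1 x2 x3 l0 l1 l2 l3 l4 : R) :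
  Matrix.det !![0, x3, -x2, -x3, x2, l0;
     -x3, 0, x1, x3, 0, l1;
     x2, -x1, 0, 0, -x2, l2;
     x3, -x3, 0, 0, -x0, l3;
     -x2, 0, x2, x0, 0, l4;
     -l0, -l1, -l2, -l3, -l4, 0] = (l0 * (x0*x1 - x2*x3) + l1 * (x0*x2-x2*x3) + l2 * (x0*x3-x2*x3) + l3*(x1*x2-x2*x3) + l4*(x1*x3-x2*x3))^2 := by
  rw [det6]
  simp only [det5, det4, Matrix.submatrix_apply, Matrix.of_apply, Matrix.cons_val]
  ring

variable {k : Type u} [Field k] {V : Type v} [AddCommGroup V] [Module k V]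
variable {T : V →ₗ[k] V →ₗ[k] V →ₗ[k] k}

/-- expansion of the cube of a combination of four vectors. -/
theorem cube4 (hT : IsSym3 T) (a b c d : V) (x y z t : k) :
    T (x • a + y • b + z • c + t • d) (x • a + y • b + z • c + t • d)
      (x • a + y • b + z • c + t • d) =
      x ^ 3 * T a a a + y ^ 3 * T b b b + z ^ 3 * T c c c + t ^ 3 * T d d d +
      x ^ 2 * y * (3 * T a a b) + x ^ 2 * z * (3 * T a a c) + x ^ 2 * t * (3 * T a a d) +
      x * y ^ 2 * (3 * T a b b) + y ^ 2 * z * (3 * T b b c) + y ^ 2 * t * (3 * T b b d) +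
      x * z ^ 2 * (3 * T a c c) + y * z ^ 2 * (3 * T b c c) + z ^ 2 * t * (3 * T c c d) +
      x * t ^ 2 * (3 * T a d d) + y * t ^ 2 * (3 * T b d d) + z * t ^ 2 * (3 * T c d d) +
      x * y * z * (6 * T a b c) + x * y * t * (6 * T a b d) + x * z * t * (6 * T a c d) +
      y * z * t * (6 * T b c d) := by
  rw [hT.cube_add (x • a + y • b + z • c) (t • d), hT.cube_add (x • a + y • b) (z • c),
    hT.cube_add (x • a) (y • b)]
  simp only [map_add, map_smul, LinearMap.add_apply, LinearMap.smul_apply, smul_eq_mul]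
  rw [hT.s12 b a c, hT.s12 b a d, hT.s12 c a d, hT.s12 c b d]
  ring

end K655.Pfaff
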