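import Groth.Agent.Cubic.K656.Eckardt
import Mathlib.Data.Set.Card

set_option autoImplicit false

/-! Plane sections of a smooth cubic surface (trilinear form version). -/

namespace K655.Plane

open K656.Trilin K656.Eckardt Module

universe u v w

variable {k : Type u} [Field k] {V : Type v} [AddCommGroup V] [Module k V]
variable {T : V →ₗ[k] V →ₗ[k] V →ₗ[k] k}

/-- If a set has no `n + 1` distinct elements then it has at most `n` elements. -/
theorem encard_le_of_forall_not {α : Type*} (S : Set α) (n : ℕ)
    (h : ∀ g : Fin (n + 1) → α, Function.Injective g → (∀ i, g i ∈ S) → False) :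
    S.encard ≤ n := by
  by_contra hc
  push Not at hc
  have h1 : ((n + 1 : ℕ) : ℕ∞) ≤ S.encard := by
    have := Order.add_one_le_of_lt hc
    exact_mod_cast this
  obtain ⟨t, htS, ht⟩ := Set.exists_subset_encard_eq h1
  have hfin : t.Finite := Set.finite_of_encard_eq_coe ht
  have hcard : hfin.toFinset.card = n + 1 := by
    rw [hfin.encard_eq_coe_toFinset_card] at ht
    exact_mod_cast ht
  let e := (hfin.toFinset.equivFinOfCardEq hcard).symm
  refine h (fun i => (e i : α)) (fun i j hij => e.injective (Subtype.ext hij)) fun i => ?_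
  have := (e i).2
  rw [Set.Finite.mem_toFinset] at this
  exact htS this

theorem finite_ncard_le_of_forall_not {α : Type*} (S : Set α) (n : ℕ)
    (h : ∀ g : Fin (n + 1) → α, Function.Injective g → (∀ i, g i ∈ S) → False) :
    S.Finite ∧ S.ncard ≤ n := by
  have h1 := encard_le_of_forall_not S n h
  have hf : S.Finite := Set.finite_of_encard_le_coe h1
  refine ⟨hf, ?_⟩
  rw [← hf.cast_ncard_eq] at h1
  exact_mod_cast h1

/-- A binary quadratic form has a nontrivial zero. -/
theorem exists_quad_zero [CharZero k] [IsAlgClosed k] (hT : IsSym3 T) {a b : V} (ha : a ≠ 0)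
    (hb : b ∉ Submodule.span k {a}) (e : V) :
    ∃ s t : k, s • a + t • b ≠ 0 ∧ T (s • a + t • b) (s • a + t • b) e = 0 := by
  by_cases h : T b b e = 0
  · refine ⟨0, 1, ?_, ?_⟩
    · rw [zero_smul, one_smul, zero_add]
      rintro rfl; exact hb (Submodule.zero_mem _)
    · rw [zero_smul, one_smul, zero_add]; exact h
  · set q : Polynomial k := Polynomial.C (T b b e) * Polynomial.X ^ 2 +
      Polynomial.C (2 * T a b e) * Polynomial.X + Polynomial.C (T a a e) with hq
    have hdeg : q.degree = 2 := Polynomial.degree_quadratic h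
    obtain ⟨t, ht⟩ := IsAlgClosed.exists_root q (by rw [hdeg]; decide)
    have ht' : T b b e * t ^ 2 + 2 * T a b e * t + T a a e = 0 := by
      have : q.eval t = 0 := ht
      simpa [hq] using this
    refine ⟨1, t, ?_, ?_⟩
    · intro h0
      rw [one_smul] at h0
      by_cases ht0 : t = 0
      · rw [ht0, zero_smul, add_zero] at h0; exact ha h0
      · apply hb
        rw [Submodule.mem_span_singleton]
        refine ⟨-t⁻¹, ?_⟩
        have h1 : t • b = -a := by rw [eq_neg_iff_add_eq_zero, add_comm]; exact h0
        rw [neg_smul, ← smul_neg, ← h1, smul_smul, inv_mul_cancel₀ ht0, one_smul]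
    · rw [one_smul, hT.sq_add_smul]
      linear_combination ht'

/-- In a space of dimension at least two there are two independent vectors. -/
theorem exists_pair {W : Type*} [AddCommGroup W] [Module k W] (K : Submodule k W)
    (hK : 2 ≤ finrank k ↥K) : ∃ a ∈ K, ∃ b ∈ K, a ≠ 0 ∧ b ∉ Submodule.span k {a} := by
  have hfd : FiniteDimensional k ↥K := FiniteDimensional.of_finrank_pos (by omega)
  have h1 : K ≠ ⊥ := by rintro rfl; simp at hK
  obtain ⟨a, haK, ha⟩ := Submodule.exists_mem_ne_zero_of_ne_bot h1
  have h2 : Submodule.span k {a} ≤ K := by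
    rw [Submodule.span_singleton_le_iff_mem]; exact haK
  have h3 : Submodule.span k {a} ≠ K := by
    intro h
    have := finrank_span_singleton (K := k) ha
    rw [h] at this; omega
  obtain ⟨b, hbK, hb⟩ := SetLike.exists_of_lt (lt_of_le_of_ne h2 h3)
  exact ⟨a, haK, b, hbK, ha, hb⟩

theorem two_le_finrank_ker {W : Type*} [AddCommGroup W] [Module k W] [FiniteDimensional k W]
    {n : ℕ} (hW : finrank k W = n + 1) (m : W →ₗ[k] k) :
    n ≤ finrank k ↥(LinearMap.ker m) := by
  by_cases hm : m = 0
  · rw [hm, LinearMap.ker_zero, finrank_top, hW]; omega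
  · rw [mem_ker_finrank hW hm]

theorem exists_notMem [FiniteDimensional k V] {n m : ℕ} (hV : finrank k V = n)
    (H : Submodule k V) (hH : finrank k ↥H = m) (hmn : m < n) : ∃ e, e ∉ H := by
  have hlt : H < ⊤ := by
    rw [lt_top_iff_ne_top]
    rintro rfl
    rw [finrank_top] at hH; omega
  obtain ⟨e, -, he⟩ := SetLike.exists_of_lt hlt
  exact ⟨e, he⟩

/-- hyperplane decomposition -/
theorem decomp [FiniteDimensional k V] {n : ℕ} (hV : finrank k V = n + 1)
    (H : Submodule k V) (hH : finrank k ↥H = n) {e : V} (he : e ∉ H) (v : V) :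
    ∃ h ∈ H, ∃ c : k, v = h + c • e := by
  have h1 : H < H ⊔ Submodule.span k {e} := by
    refine lt_of_le_of_ne le_sup_left fun h => he ?_
    rw [h]; exact Submodule.mem_sup_right (Submodule.mem_span_singleton_self e)
  have h2 := Submodule.finrank_lt_finrank_of_lt h1
  have h3 : H ⊔ Submodule.span k {e} = ⊤ := by
    apply Submodule.eq_top_of_finrank_eq
    apply le_antisymm (Submodule.finrank_le _)
    rw [hV]; omega
  have hv : v ∈ H ⊔ Submodule.span k {e} := by rw [h3]; exact Submodule.mem_top
  obtain ⟨h, hh, x, hx, rfl⟩ := Submodule.mem_sup.mp hv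
  obtain ⟨c, rfl⟩ := Submodule.mem_span_singleton.mp hx
  exact ⟨h, hh, c, rfl⟩

/-- The restriction of a smooth cubic form to a hyperplane has no double factor. -/
theorem no_double [CharZero k] [IsAlgClosed k] [FiniteDimensional k V] (hV : finrank k V = 4)
    (hT : IsSym3 T) (hsm : Smooth T) {W : Type w} [AddCommGroup W] [Module k W]
    [FiniteDimensional k W] (hW : finrank k W = 3) (A : W →ₗ[k] V) (hA : Function.Injective A)
    (m n : W →ₗ[k] k) (h : ∀ y, T (A y) (A y) (A y) = m y ^ 2 * n y) : False := by
  have h6 : (6 : k) ≠ 0 := by norm_num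
  obtain ⟨a, ha, b, hb, ha0, hab⟩ := exists_pair (LinearMap.ker m) (two_le_finrank_ker hW m)
  rw [LinearMap.mem_ker] at ha hb
  have hR : finrank k ↥(LinearMap.range A) = 3 := by rw [LinearMap.finrank_range_of_inj hA, hW]
  obtain ⟨e, he⟩ := exists_notMem hV (LinearMap.range A) hR (by norm_num)
  have hAa : A a ≠ 0 := fun h0 => ha0 (hA (by rw [h0, map_zero]))
  have hAb : A b ∉ Submodule.span k {A a} := by
    intro hmem
    obtain ⟨c, hc⟩ := Submodule.mem_span_singleton.mp hmem
    apply hab
    rw [Submodule.mem_span_singleton]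
    exact ⟨c, hA (by rw [map_smul, hc])⟩
  obtain ⟨s, t, hne, hz⟩ := exists_quad_zero hT hAa hAb e
  have hx : s • A a + t • A b = A (s • a + t • b) := by simp
  rw [hx] at hne hz
  set x := s • a + t • b with hxd
  have hmx : m x = 0 := by rw [hxd]; simp [ha, hb]
  have hpol : ∀ y, T (A x) (A x) (A y) = 0 := by
    intro y
    apply mul_left_cancel₀ h6
    rw [hT.polar]
    simp only [← map_add, h]
    simp only [map_add, hmx]
    ring
  have hall : ∀ v, T (A x) (A x) v = 0 := by
    intro v
    obtain ⟨h, ⟨y, rfl⟩, c, rfl⟩ := decomp (n := 3) hV _ hR he v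
    rw [map_add, map_smul, hpol, hz]; simp
  obtain ⟨v, hv⟩ := hsm _ hne (hall _)
  exact hv (hall v)

/-- A smooth cubic surface contains no plane. -/
theorem no_plane [CharZero k] [IsAlgClosed k] [FiniteDimensional k V] (hV : finrank k V = 4)
    (hT : IsSym3 T) (hsm : Smooth T) (H : Submodule k V) (hH : finrank k ↥H = 3)
    (h : ∀ y ∈ H, T y y y = 0) : False := by
  have : FiniteDimensional k ↥H := FiniteDimensional.of_finrank_pos (by omega)
  exact no_double hV hT hsm hH H.subtype H.injective_subtype 0 0
    (fun y => by simpa using h y y.2)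

end K655.Plane
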