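import Groth.Agent.Cubic.K655.Factor

set_option autoImplicit false

/-! First polar and tangent plane at a point (trilinear form version). -/

namespace K655.Polar

open K656.Trilin K656.Eckardt K655.Plane K655.Through K655.Tritan K655.Pfaff K655.Factor Module

universe u v w

variable {k : Type u} [Field k] {V : Type v} [AddCommGroup V] [Module k V]
variable {T : V →ₗ[k] V →ₗ[k] V →ₗ[k] k}

theorem smul_notMem_of_pair {e1 e2 : V} (h1 : e1 ≠ 0) (h2 : e2 ∉ Submodule.span k {e1})
    {x y : k} (h : x • e1 + y • e2 = 0) : x = 0 ∧ y = 0 := by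
  have hli : LinearIndependent k ![e1, e2] := by
    rw [LinearIndependent.pair_iff' h1]
    intro c hc
    exact h2 (hc ▸ Submodule.smul_mem _ _ (Submodule.mem_span_singleton_self e1))
  exact LinearIndependent.pair_iff.mp hli x y h

/-- Coordinates adapted to a smooth point. -/
theorem exists_coords [FiniteDimensional k V] (hV : finrank k V = 4) {a : V} (ha : a ≠ 0)
    (haa : T a a a = 0) (hsm : ∃ w, T a a w ≠ 0) :
    ∃ (e1 e2 n : V) (s x y r : V →ₗ[k] k), (∀ v, v = s v • a + x v • e1 + y v • e2 + r v • n) ∧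
      s a = 1 ∧ x a = 0 ∧ y a = 0 ∧ r a = 0 ∧ s e1 = 0 ∧ x e1 = 1 ∧ y e1 = 0 ∧ r e1 = 0 ∧
      s e2 = 0 ∧ x e2 = 0 ∧ y e2 = 1 ∧ r e2 = 0 ∧ s n = 0 ∧ x n = 0 ∧ y n = 0 ∧ r n = 1 ∧
      T a a e1 = 0 ∧ T a a e2 = 0 ∧ T a a n ≠ 0 ∧ (∀ v, T a a v = 0 ↔ r v = 0) := by
  obtain ⟨n, hn⟩ := hsm
  have hℓ0 : T a a ≠ 0 := fun h => hn (by rw [h]; rfl)
  have hH : finrank k ↥(LinearMap.ker (T a a)) = 3 := mem_ker_finrank hV hℓ0
  obtain ⟨K, hKH, hK, haK, hdec⟩ := exists_compl (n := 2) hH ha (LinearMap.mem_ker.mpr haa)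
  obtain ⟨e1, he1K, e2, he2K, he1, he2⟩ := exists_pair K hK.ge
  have f1 : T a a e1 = 0 := hKH he1K
  have f2 : T a a e2 = 0 := hKH he2K
  have hli : LinearIndependent k ![a, e1, e2, n] := by
    rw [Fintype.linearIndependent_iff]
    intro g hg
    rw [Fin.sum_univ_four] at hg
    have hg' : g 0 • a + g 1 • e1 + g 2 • e2 + g 3 • n = 0 := by simpa using hg
    have h3 : g 3 = 0 := by
      have h1 := congrArg (T a a) hg'
      simp only [map_add, map_smul, smul_eq_mul, haa, f1, f2, mul_zero, zero_add,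
        map_zero] at h1
      exact (mul_eq_zero.mp h1).resolve_right hn
    rw [h3, zero_smul, add_zero] at hg'
    have h0 : g 0 = 0 := by
      by_contra h0
      apply haK
      have h4 : a = -((g 0)⁻¹ • (g 1 • e1 + g 2 • e2)) := by
        have h5 : g 0 • a = -(g 1 • e1 + g 2 • e2) := by
          rw [eq_neg_iff_add_eq_zero, ← hg']; abel
        have h6 : a = (g 0)⁻¹ • (g 0 • a) := by rw [smul_smul, inv_mul_cancel₀ h0, one_smul]
        rw [h6, h5, smul_neg]
      rw [h4]
      exact K.neg_mem (K.smul_mem _ (K.add_mem (K.smul_mem _ he1K) (K.smul_mem _ he2K)))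
    rw [h0, zero_smul, zero_add] at hg'
    obtain ⟨h1, h2⟩ := smul_notMem_of_pair he1 he2 hg'
    intro i; fin_cases i
    · exact h0
    · exact h1
    · exact h2
    · exact h3
  let b := basisOfLinearIndependentOfCardEqFinrank hli (by simp [hV])
  have hb : ∀ i, b i = ![a, e1, e2, n] i := fun i => by simp [b]
  have hv : ∀ v, v = b.coord 0 v • a + b.coord 1 v • e1 + b.coord 2 v • e2 + b.coord 3 v • n := by
    intro v
    have := b.sum_repr v
    rw [Fin.sum_univ_four] at this
    simpa [b] using this.symm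
  have hc : ∀ i j, b.coord i (![a, e1, e2, n] j) = if j = i then 1 else 0 := by
    intro i j
    rw [← hb, Basis.coord_apply, Basis.repr_self, Finsupp.single_apply]
  refine ⟨e1, e2, n, b.coord 0, b.coord 1, b.coord 2, b.coord 3, hv, hc 0 0, hc 1 0, hc 2 0,
    hc 3 0, hc 0 1, hc 1 1, hc 2 1, hc 3 1, hc 0 2, hc 1 2, hc 2 2, hc 3 2, hc 0 3, hc 1 3,
    hc 2 3, hc 3 3, f1, f2, hn, fun v => ?_⟩
  conv_lhs => rw [hv v]
  simp only [map_add, map_smul, smul_eq_mul, haa, f1, f2, mul_zero, zero_add]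
  rw [mul_eq_zero, or_iff_left hn]

/-- First polar: either it consists of two lines in the tangent plane, or the plane section
is a union of lines through the point. -/
theorem polar_dichotomy [CharZero k] [IsAlgClosed k] [FiniteDimensional k V]
    (hV : finrank k V = 4) (hT : IsSym3 T) {a : V} (ha : a ≠ 0)
    (haa : T a a a = 0) (hsm : ∃ w, T a a w ≠ 0) :
    (∃ U₁ U₂ : Submodule k V, finrank k ↥U₁ = 2 ∧ finrank k ↥U₂ = 2 ∧ a ∈ U₁ ∧ a ∈ U₂ ∧
      U₁ ≤ LinearMap.ker (T a a) ∧ U₂ ≤ LinearMap.ker (T a a) ∧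
      ∀ x, T a a x = 0 → (T a x x = 0 ↔ x ∈ U₁ ∨ x ∈ U₂)) ∨
    ∃ μ₁ μ₂ μ₃ : V →ₗ[k] k, ∀ v, T a a v = 0 → T v v v = μ₁ v * μ₂ v * μ₃ v := by
  obtain ⟨e1, e2, n, s, x, y, r, hv, -, xa, ya, -, -, x1, y1, -, -, x2, y2, -, -, -, -, -, f1,
    f2, -, hr⟩ := exists_coords hV ha haa hsm
  obtain ⟨α, β, γ, δ, hf⟩ := quad_factor (T a e1 e1) (2 * T a e1 e2) (T a e2 e2)
  have hH : ∀ v, T a a v = 0 → v = s v • a + x v • e1 + y v • e2 := by
    intro v h
    have h1 := (hr v).mp h
    have h2 := hv v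
    rwa [h1, zero_smul, add_zero] at h2
  have hq : ∀ v, T a a v = 0 → T a v v = (α * x v + β * y v) * (γ * x v + δ * y v) := by
    intro v h
    rw [← hf]
    conv_lhs => rw [hH v h]
    simp only [map_add, map_smul, LinearMap.add_apply, LinearMap.smul_apply, smul_eq_mul]
    rw [haa, f1, f2, hT.s23 a e1 a, hT.s23 a e2 a, f1, f2, hT.s23 a e2 e1]
    ring
  by_cases h0 : (α = 0 ∧ β = 0) ∨ (γ = 0 ∧ δ = 0)
  · right
    have hq0 : ∀ v, T a a v = 0 → T a v v = 0 := by
      intro v h
      rw [hq v h]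
      rcases h0 with ⟨h1, h2⟩ | ⟨h1, h2⟩
      · rw [h1, h2]; ring
      · rw [h1, h2]; ring
    obtain ⟨a₁, b₁, a₂, b₂, a₃, b₃, hc⟩ := cubic_factor (T e1 e1 e1) (3 * T e1 e1 e2)
      (3 * T e1 e2 e2) (T e2 e2 e2)
    refine ⟨a₁ • x + b₁ • y, a₂ • x + b₂ • y, a₃ • x + b₃ • y, fun v h => ?_⟩
    simp only [LinearMap.add_apply, LinearMap.smul_apply, smul_eq_mul]
    rw [← hc]
    have hw : T a a (x v • e1 + y v • e2) = 0 := by
      simp [f1, f2]
    have h1 : v = s v • a + (1 : k) • (x v • e1 + y v • e2) := by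
      rw [one_smul, ← add_assoc]; exact hH v h
    conv_lhs => rw [h1]
    rw [hT.cube_smul_add_smul, haa, hw, hq0 _ hw, hT.cube_smul_add_smul]
    ring
  · left
    push Not at h0
    obtain ⟨h1, h2⟩ := h0
    have key : ∀ p q : k, (p = 0 → q ≠ 0) → finrank k ↥(Submodule.span k {a, q • e1 - p • e2}) = 2 ∧
        Submodule.span k {a, q • e1 - p • e2} ≤ LinearMap.ker (T a a) ∧
        ∀ v, T a a v = 0 → (p * x v + q * y v = 0 ↔
          v ∈ Submodule.span k {a, q • e1 - p • e2}) := by
      intro p q hpq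
      have hne : q • e1 - p • e2 ∉ Submodule.span k {a} := by
        intro h
        obtain ⟨c, hc⟩ := Submodule.mem_span_singleton.mp h
        have hx := congrArg x hc
        have hy := congrArg y hc
        simp only [map_sub, map_smul, smul_eq_mul, xa, ya, x1, x2, y1, y2, mul_one, mul_zero,
          sub_zero, zero_sub] at hx hy
        exact hpq (by linear_combination hy) hx.symm
      refine ⟨finrank_span_pair' ha hne, ?_, fun v h => ?_⟩
      · rw [Submodule.span_le]
        rintro z (rfl | rfl)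
        · exact haa
        · show T a a (q • e1 - p • e2) = 0
          simp [f1, f2]
      · rw [Submodule.mem_span_pair]
        constructor
        · intro h3
          by_cases hp : p = 0
          · have hq0 := hpq hp
            have hy0 : y v = 0 := by
              rw [hp, zero_mul, zero_add] at h3
              exact (mul_eq_zero.mp h3).resolve_left hq0
            refine ⟨s v, x v / q, ?_⟩
            conv_rhs => rw [hH v h]
            rw [hp, hy0, zero_smul, sub_zero, add_zero, smul_smul, div_mul_cancel₀ _ hq0]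
          · refine ⟨s v, -(y v / p), ?_⟩
            conv_rhs => rw [hH v h]
            have hx0 : x v = -(q * y v) / p := by
              field_simp; linear_combination h3
            rw [smul_sub, smul_smul, smul_smul, hx0]
            have e1' : -(y v / p) * q = -(q * y v) / p := by ring
            have e2' : -(y v / p) * p = - y v := by field_simp
            rw [e1', e2', neg_smul, sub_neg_eq_add, add_assoc]
        · rintro ⟨c, d, rfl⟩
          simp only [map_add, map_sub, map_smul, smul_eq_mul, xa, ya, x1, x2, y1, y2]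
          ring
    obtain ⟨k1, k2, k3⟩ := key α β h1
    obtain ⟨l1, l2, l3⟩ := key γ δ h2
    refine ⟨_, _, k1, l1, Submodule.subset_span (by simp), Submodule.subset_span (by simp),
      k2, l2, fun v h => ?_⟩
    rw [hq v h, mul_eq_zero, k3 v h, l3 v h]

end K655.Polar
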