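import Groth.Agent.Cubic.K655.TritanD
import Mathlib.FieldTheory.IsAlgClosed.Basic

set_option autoImplicit false

/-! Tritangent planes through a line of a smooth cubic surface: there are exactly five. -/

namespace K655.Tritan

open K656.Trilin K656.Eckardt K655.Plane K655.Through K655.HesseB Module

universe u v w

variable {k : Type u} [Field k] {V : Type v} [AddCommGroup V] [Module k V]
variable {T : V →ₗ[k] V →ₗ[k] V →ₗ[k] k}

/-- The tritangent planes through the line `L`. -/
def IsTri (T : V →ₗ[k] V →ₗ[k] V →ₗ[k] k) (L H : Submodule k V) : Prop :=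
  finrank k ↥H = 3 ∧ L ≤ H ∧
      ∃ L' L'' : Submodule k V, finrank k ↥L' = 2 ∧ finrank k ↥L'' = 2 ∧
        L' ≠ L ∧ L'' ≠ L ∧ L' ≠ L'' ∧ L' ≤ H ∧ L'' ≤ H ∧
        (∀ u ∈ L', T u u u = 0) ∧ (∀ u ∈ L'', T u u u = 0)

theorem li3_of_notMem {e0 e1 w : V} (h01 : LinearIndependent k ![e0, e1])
    (hw : w ∉ Submodule.span k {e0, e1}) : LinearIndependent k ![e0, e1, w] := by
  have hr : Set.range ![e0, e1] = {e0, e1} := by simp [Set.pair_comm]
  have h := LinearIndependent.pair_iff.mp h01
  rw [Fintype.linearIndependent_iff]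
  intro g hg
  rw [Fin.sum_univ_three] at hg
  have hg' : g 0 • e0 + g 1 • e1 + g 2 • w = 0 := by simpa using hg
  have h2 : g 2 = 0 := by
    by_contra h2
    apply hw
    have : w = -((g 2)⁻¹ * g 0) • e0 + -((g 2)⁻¹ * g 1) • e1 := by
      have h3 : g 2 • w = -(g 0 • e0 + g 1 • e1) := by
        rw [eq_neg_iff_add_eq_zero, add_comm]; exact hg'
      have h4 : w = (g 2)⁻¹ • (g 2 • w) := by rw [smul_smul, inv_mul_cancel₀ h2, one_smul]
      rw [h4, h3]; module
    rw [this]
    exact Submodule.mem_span_pair.mpr ⟨_, _, rfl⟩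
  rw [h2, zero_smul, add_zero] at hg'
  obtain ⟨h0, h1⟩ := h _ _ hg'
  intro i; fin_cases i
  · exact h0
  · exact h1
  · exact h2

theorem finrank_span3 {e0 e1 w : V} (h : LinearIndependent k ![e0, e1, w]) :
    finrank k ↥(Submodule.span k {e0, e1, w}) = 3 := by
  rw [← range_par, LinearMap.finrank_range_of_inj (par_injective h)]; simp

theorem mem_span3 {e0 e1 w v : V} : v ∈ Submodule.span k {e0, e1, w} ↔
    ∃ a b c : k, v = a • e0 + b • e1 + c • w := by
  rw [← range_par]
  constructor
  · rintro ⟨z, rfl⟩; exact ⟨z 0, z 1, z 2, rfl⟩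
  · rintro ⟨a, b, c, rfl⟩; exact ⟨![a, b, c], rfl⟩

/-- Exactly five tritangent planes through a line. -/
theorem ncard_tri [CharZero k] [IsAlgClosed k] [FiniteDimensional k V]
    (hV : finrank k V = 4) (hT : IsSym3 T) (hsm : Smooth T) (L : Submodule k V)
    (hL : finrank k ↥L = 2) (hLT : ∀ u ∈ L, T u u u = 0) : {H | IsTri T L H}.ncard = 5 := by
  -- a basis of `L`
  obtain ⟨e0, he0L, e1, he1L, he0, he1⟩ := exists_pair L hL.ge
  have hLs : L = Submodule.span k {e0, e1} := eq_span_pair hL he0 he0L he1L he1
  have h01 : LinearIndependent k ![e0, e1] := by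
    rw [LinearIndependent.pair_iff' he0]
    intro c hc
    exact he1 (hc ▸ Submodule.smul_mem _ _ (Submodule.mem_span_singleton_self e0))
  have h000 : T e0 e0 e0 = 0 := hLT _ he0L
  have h001 : T e1 e0 e0 = 0 := hT.eq_zero_of_diag L hLT he1L he0L he0L
  have h011 : T e1 e1 e0 = 0 := hT.eq_zero_of_diag L hLT he1L he1L he0L
  have h111 : T e1 e1 e1 = 0 := hLT _ he1L
  -- a plane which is not tritangent
  obtain ⟨e, heL, hde⟩ : ∃ e, e ∉ Submodule.span k {e0, e1} ∧ disc T e0 e1 e ≠ 0 := by
    by_contra hc
    push Not at hc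
    have hall : ∀ w, disc T e0 e1 w = 0 := by
      intro w
      by_cases hw : w ∈ Submodule.span k {e0, e1}
      · exact disc_add_smul_self hT h000 h001 h011 h111 hw
      · exact hc w hw
    obtain ⟨w, hw⟩ := exists_notMem hV L hL (by norm_num)
    rw [hLs] at hw
    have hli := li3_of_notMem h01 hw
    obtain ⟨e, he⟩ := exists_notMem hV _ (finrank_span3 hli) (by norm_num)
    have hq0 : qp T e0 e1 w e = 0 := by
      have hinf : Infinite k := Infinite.of_injective (Nat.cast : ℕ → k) Nat.cast_injective
      apply Polynomial.funext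
      intro s
      rw [eval_qp hT, hall, Polynomial.eval_zero]
    have h1 := eval_derivative_qp hT e0 e1 w e 0
    rw [hq0, Polynomial.derivative_zero, Polynomial.eval_zero, zero_smul, add_zero] at h1
    exact ddisc_ne_zero hV hT hsm hli he h000 h001 h011 h111 (hall w) h1.symm
  have hlie := li3_of_notMem h01 heL
  obtain ⟨w, hw⟩ := exists_notMem hV _ (finrank_span3 hlie) (by norm_num)
  -- independence facts
  have hwe : ∀ a b c d : k, a • e0 + b • e1 + c • w + d • e = 0 → c = 0 ∧ d = 0 := by
    intro a b c d h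
    have hc0 : c = 0 := by
      by_contra hc0
      apply hw
      rw [mem_span3]
      refine ⟨-(c⁻¹ * a), -(c⁻¹ * b), -(c⁻¹ * d), ?_⟩
      have h3 : c • w = -(a • e0 + b • e1 + d • e) := by
        rw [eq_neg_iff_add_eq_zero, ← h]; abel
      have h4 : w = c⁻¹ • (c • w) := by rw [smul_smul, inv_mul_cancel₀ hc0, one_smul]
      rw [h4, h3]; module
    refine ⟨hc0, ?_⟩
    rw [hc0, zero_smul, add_zero] at h
    have := Fintype.linearIndependent_iff.mp hlie ![a, b, d] (by
      rw [Fin.sum_univ_three]; simpa using h)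
    exact this 2
  have hws : ∀ s : k, w + s • e ∉ Submodule.span k {e0, e1} := by
    intro s h
    obtain ⟨a, b, hab⟩ := Submodule.mem_span_pair.mp h
    have := (hwe a b (-1) (-s) (by rw [hab]; module)).1
    exact (by norm_num : (-1 : k) ≠ 0) this
  have hlis : ∀ s : k, LinearIndependent k ![e0, e1, w + s • e] := fun s =>
    li3_of_notMem h01 (hws s)
  have hes : ∀ s : k, e ∉ Submodule.span k {e0, e1, w + s • e} := by
    intro s h
    obtain ⟨a, b, c, habc⟩ := mem_span3.mp h
    have := hwe a b c (c * s - 1) (by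
      have : a • e0 + b • e1 + c • w + (c * s - 1) • e = (a • e0 + b • e1 + c • (w + s • e)) - e := by
        module
      rw [this, ← habc, sub_self])
    rw [this.1] at this
    have h2 := this.2
    rw [zero_mul, zero_sub] at h2
    exact (by norm_num : (-1 : k) ≠ 0) h2
  -- the polynomial
  set q := qp T e0 e1 w e with hq
  have hq5 : q.coeff 5 ≠ 0 := by rw [hq, coeff_qp]; exact hde
  have hq0 : q ≠ 0 := by intro h; rw [h] at hq5; simp at hq5
  have hdeg : q.natDegree = 5 :=
    le_antisymm (by rw [hq, qp]; exact natDegree_dp _ _ _ _ _ _ _ _ _ _ _ _ _ _ _ _)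
      (Polynomial.le_natDegree_of_ne_zero hq5)
  classical
  have hnodup : q.roots.Nodup := by
    rw [Multiset.nodup_iff_count_le_one]
    intro s
    rw [Polynomial.count_roots]
    by_contra hc
    push Not at hc
    rw [Polynomial.one_lt_rootMultiplicity_iff_isRoot hq0] at hc
    obtain ⟨h1, h2⟩ := hc
    rw [Polynomial.IsRoot, hq, eval_qp hT] at h1
    rw [Polynomial.IsRoot, hq, eval_derivative_qp hT] at h2
    exact ddisc_ne_zero hV hT hsm (hlis s) (hes s) h000 h001 h011 h111 h1 h2
  have hcard : q.roots.toFinset.card = 5 := by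
    rw [Multiset.toFinset_card_of_nodup hnodup, IsAlgClosed.card_roots_eq_natDegree, hdeg]
  have hset : {H | IsTri T L H} =
      (fun s : k => Submodule.span k {e0, e1, w + s • e}) '' (q.roots.toFinset : Set k) := by
    ext H
    constructor
    · rintro ⟨hH, hLH, L', L'', h1, h2, h3, h4, h5, h6, h7, h8, h9⟩
      have hFD : FiniteDimensional k ↥H := FiniteDimensional.of_finrank_pos (by omega)
      rw [hLs] at h3 h4
      have he0H : e0 ∈ H := hLH he0L
      have he1H : e1 ∈ H := hLH he1L
      have heH : e ∉ H := by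
        intro heH
        have hHe : H = Submodule.span k {e0, e1, e} := by
          symm
          apply Submodule.eq_of_le_of_finrank_eq
          · rw [Submodule.span_le]
            rintro x (rfl | rfl | rfl)
            · exact he0H
            · exact he1H
            · exact heH
          · rw [hH, finrank_span3 hlie]
        rw [hHe] at h6 h7
        exact hde (disc_eq_zero hT hlie h000 h001 h011 h111 h1 h2 h3 h4 h5 h6 h7 h8 h9)
      obtain ⟨x, hxH, hxL⟩ : ∃ x ∈ H, x ∉ L := by
        by_contra hc
        push Not at hc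
        have := Submodule.finrank_mono (show H ≤ L from hc)
        omega
      -- coordinates of `x`
      have hx : ∃ a b c d : k, x = a • e0 + b • e1 + c • w + d • e := by
        obtain ⟨h', hh', c, hc⟩ := decomp (n := 3) hV _ (finrank_span3 hlie) hw x
        obtain ⟨a, b, d, rfl⟩ := mem_span3.mp hh'
        exact ⟨a, b, c, d, by rw [hc]; abel⟩
      obtain ⟨a, b, c, d, rfl⟩ := hx
      have hmem : c • w + d • e ∈ H := by
        have := H.sub_mem hxH (H.add_mem (H.smul_mem a he0H) (H.smul_mem b he1H))
        have h' : a • e0 + b • e1 + c • w + d • e - (a • e0 + b • e1) = c • w + d • e := by abel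
        rwa [h'] at this
      have hc0 : c ≠ 0 := by
        rintro rfl
        rw [zero_smul, zero_add] at hmem
        by_cases hd0 : d = 0
        · apply hxL
          rw [hd0, zero_smul, zero_smul, add_zero, add_zero, hLs]
          exact Submodule.mem_span_pair.mpr ⟨a, b, rfl⟩
        · apply heH
          have := H.smul_mem d⁻¹ hmem
          rwa [smul_smul, inv_mul_cancel₀ hd0, one_smul] at this
      have hwH : w + (d / c) • e ∈ H := by
        have := H.smul_mem c⁻¹ hmem
        have h' : c⁻¹ • (c • w + d • e) = w + (d / c) • e := by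
          rw [smul_add, smul_smul, smul_smul, inv_mul_cancel₀ hc0, one_smul, div_eq_inv_mul]
        rwa [h'] at this
      have hHe : Submodule.span k {e0, e1, w + (d / c) • e} = H := by
        apply Submodule.eq_of_le_of_finrank_eq
        · rw [Submodule.span_le]
          rintro x (rfl | rfl | rfl)
          · exact he0H
          · exact he1H
          · exact hwH
        · rw [hH, finrank_span3 (hlis _)]
      refine ⟨d / c, ?_, hHe⟩
      rw [Finset.mem_coe, Multiset.mem_toFinset, Polynomial.mem_roots hq0, Polynomial.IsRoot, hq,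
        eval_qp hT]
      rw [← hHe] at h6 h7
      exact disc_eq_zero hT (hlis _) h000 h001 h011 h111 h1 h2 h3 h4 h5 h6 h7 h8 h9
    · rintro ⟨s, hs, rfl⟩
      rw [Finset.mem_coe, Multiset.mem_toFinset, Polynomial.mem_roots hq0, Polynomial.IsRoot, hq,
        eval_qp hT] at hs
      obtain ⟨L', L'', h1, h2, h3, h4, h5, h6, h7, h8, h9⟩ :=
        exists_lines hV hT hsm (hlis s) h000 h001 h011 h111 hs
      rw [← hLs] at h3 h4
      refine ⟨finrank_span3 (hlis s), ?_, L', L'', h1, h2, h3, h4, h5, h6, h7, h8, h9⟩
      rw [hLs]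
      refine Submodule.span_mono ?_
      rintro x (rfl | rfl) <;> simp
  suffices hinj : Set.InjOn (fun s : k => Submodule.span k {e0, e1, w + s • e})
      (q.roots.toFinset : Set k) by
    rw [hset, hinj.ncard_image, Set.ncard_coe_finset, hcard]
  intro s _ s' _ hss
  by_contra hne
  have h1 : w + s • e ∈ Submodule.span k {e0, e1, w + s • e} := Submodule.subset_span (by simp)
  have h2 : w + s' • e ∈ Submodule.span k {e0, e1, w + s • e} := by
    have : Submodule.span k {e0, e1, w + s • e} = Submodule.span k {e0, e1, w + s' • e} := hss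
    rw [this]; exact Submodule.subset_span (by simp)
  have h3 := Submodule.sub_mem _ h1 h2
  have h4 : w + s • e - (w + s' • e) = (s - s') • e := by module
  rw [h4] at h3
  have h5 := Submodule.smul_mem _ (s - s')⁻¹ h3
  rw [smul_smul, inv_mul_cancel₀ (sub_ne_zero.mpr hne), one_smul] at h5
  exact hes s h5

end K655.Tritan
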