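import Groth.Agent.Cubic.K655.Polar
import Groth.Agent.Cubic.K655.Pfaff
import Groth.Agent.Cubic.K655.TritanE
import Mathlib.Combinatorics.Pigeonhole

set_option autoImplicit false

/-! Lines through a singular point of an irreducible cubic surface which is not a cone. -/

namespace K655.SingPt

open K656.Trilin K656.Eckardt K655.Plane K655.Through K655.Tritan K655.Factor K655.Polar Module

universe u v w

variable {k : Type u} [Field k] {V : Type v} [AddCommGroup V] [Module k V]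
variable {T : V →ₗ[k] V →ₗ[k] V →ₗ[k] k}

/-- coordinates with respect to four independent vectors -/
theorem exists_coords4 [FiniteDimensional k V] (hV : finrank k V = 4) {a b c d : V}
    (hli : LinearIndependent k ![a, b, c, d]) :
    ∃ (s x y r : V →ₗ[k] k), (∀ v, v = s v • a + x v • b + y v • c + r v • d) ∧
      (s a = 1 ∧ x a = 0 ∧ y a = 0 ∧ r a = 0) ∧ (s b = 0 ∧ x b = 1 ∧ y b = 0 ∧ r b = 0) ∧
      (s c = 0 ∧ x c = 0 ∧ y c = 1 ∧ r c = 0) ∧ (s d = 0 ∧ x d = 0 ∧ y d = 0 ∧ r d = 1) := by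
  let B := basisOfLinearIndependentOfCardEqFinrank hli (by simp [hV])
  have hb : ∀ i, B i = ![a, b, c, d] i := fun i => by simp [B]
  have hc : ∀ i j, B.coord i (![a, b, c, d] j) = if j = i then 1 else 0 := by
    intro i j
    rw [← hb, Basis.coord_apply, Basis.repr_self, Finsupp.single_apply]
  refine ⟨B.coord 0, B.coord 1, B.coord 2, B.coord 3, fun v => ?_,
    ⟨hc 0 0, hc 1 0, hc 2 0, hc 3 0⟩, ⟨hc 0 1, hc 1 1, hc 2 1, hc 3 1⟩,
    ⟨hc 0 2, hc 1 2, hc 2 2, hc 3 2⟩, ⟨hc 0 3, hc 1 3, hc 2 3, hc 3 3⟩⟩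
  have := B.sum_repr v
  rw [Fin.sum_univ_four] at this
  simpa [B] using this.symm

/-- four independent vectors from a complement -/
theorem li4 {a α e1 e2 : V} {K : Submodule k V} (haK : a ∉ K) (hα : α ∈ K) (h1 : e1 ∈ K)
    (h2 : e2 ∈ K) (hli : LinearIndependent k ![α, e1, e2]) :
    LinearIndependent k ![a, α, e1, e2] := by
  rw [Fintype.linearIndependent_iff]
  intro g hg
  rw [Fin.sum_univ_four] at hg
  have hg' : g 0 • a + g 1 • α + g 2 • e1 + g 3 • e2 = 0 := by simpa using hg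
  have h0 : g 0 = 0 := by
    by_contra h0
    apply haK
    have h4 : a = -((g 0)⁻¹ • (g 1 • α + g 2 • e1 + g 3 • e2)) := by
      have h5 : g 0 • a = -(g 1 • α + g 2 • e1 + g 3 • e2) := by
        rw [eq_neg_iff_add_eq_zero, ← hg']; abel
      have h6 : a = (g 0)⁻¹ • (g 0 • a) := by rw [smul_smul, inv_mul_cancel₀ h0, one_smul]
      rw [h6, h5, smul_neg]
    rw [h4]
    exact K.neg_mem (K.smul_mem _ (K.add_mem (K.add_mem (K.smul_mem _ hα) (K.smul_mem _ h1))
      (K.smul_mem _ h2)))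
  rw [h0, zero_smul, zero_add] at hg'
  have := Fintype.linearIndependent_iff.mp hli ![g 1, g 2, g 3] (by
    rw [Fin.sum_univ_three]; simpa using hg')
  intro i; fin_cases i
  · exact h0
  · exact this 0
  · exact this 1
  · exact this 2

/-- Four of the seven points on one of the two lines. -/
theorem degenerate_aux [CharZero k] [FiniteDimensional k V]
    (hT : IsSym3 T) {a : V} (haa : ∀ v, T a a v = 0)
    (hne : ∃ v, T a v v ≠ 0) {K : Submodule k V}
    (hK : finrank k ↥K = 3) (hdec : ∀ v : V, ∃ c : k, ∃ w ∈ K, v = c • a + w)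
    (μ ν : V →ₗ[k] k) (hμa : μ a = 0) (hq : ∀ w ∈ K, T a w w = μ w * ν w)
    (w : Fin 7 → V) (hwK : ∀ i, w i ∈ K) (hw0 : ∀ i, w i ≠ 0)
    (hnp : ∀ i j, i ≠ j → w j ∉ Submodule.span k {w i})
    (hw3 : ∀ i, T (w i) (w i) (w i) = 0) (g : Fin 4 → Fin 7)
    (hg : Function.Injective g) (hμ : ∀ i, μ (w (g i)) = 0) :
    ∃ φ : V →ₗ[k] k, φ ≠ 0 ∧ ∀ v, φ v = 0 → T v v v = 0 := by
  have hμK : ∃ z ∈ K, μ z ≠ 0 := by
    by_contra hc
    push Not at hc
    obtain ⟨v, hv⟩ := hne
    apply hv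
    obtain ⟨c, w, hw, rfl⟩ := hdec v
    simp only [map_add, map_smul, LinearMap.add_apply, LinearMap.smul_apply, smul_eq_mul]
    rw [haa, haa, hT.s23 a w a, haa, hq w hw, hc w hw]; ring
  obtain ⟨z, hzK, hz⟩ := hμK
  have hK' : finrank k ↥(K ⊓ LinearMap.ker μ) = 2 := by
    have h1 := Submodule.finrank_sup_add_finrank_inf_eq K (LinearMap.ker μ)
    have h2 : K ⊓ LinearMap.ker μ < K := by
      refine lt_of_le_of_ne inf_le_left fun h => hz ?_
      have : z ∈ K ⊓ LinearMap.ker μ := by rw [h]; exact hzK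
      exact this.2
    have h3 := Submodule.finrank_lt_finrank_of_lt h2
    have h4 : finrank k ↥(K ⊔ LinearMap.ker μ) ≤ finrank k V := Submodule.finrank_le _
    have h5 := LinearMap.finrank_range_add_finrank_ker μ
    have h6 : finrank k ↥(LinearMap.range μ) ≤ 1 := by
      have := Submodule.finrank_le (LinearMap.range μ)
      rwa [finrank_self] at this
    omega
  have hc := cubic_zero_of_four hT hK' (a := w (g 0)) (b := w (g 1)) (c := w (g 2))
    (d := w (g 3)) ⟨hwK _, hμ 0⟩ ⟨hwK _, hμ 1⟩ ⟨hwK _, hμ 2⟩ ⟨hwK _, hμ 3⟩ (hw0 _)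
    (hnp _ _ (hg.ne (by decide))) (hnp _ _ (hg.ne (by decide)))
    (hnp _ _ (hg.ne (by decide))) (hnp _ _ (hg.ne (by decide)))
    (hnp _ _ (hg.ne (by decide))) (hnp _ _ (hg.ne (by decide)))
    (hw3 _) (hw3 _) (hw3 _) (hw3 _)
  refine ⟨μ, fun h => hz (by rw [h]; rfl), fun v hv => ?_⟩
  obtain ⟨c, u, hu, rfl⟩ := hdec v
  rw [map_add, map_smul, hμa, smul_zero, zero_add] at hv
  have h1 := hT.cube_smul_add_smul a u c 1
  rw [one_smul] at h1
  rw [h1, haa, haa, hq u hu, hv, hc u ⟨hu, hv⟩]; ring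

/-- The degenerate case: the tangent cone splits into two planes. -/
theorem degenerate [CharZero k] [FiniteDimensional k V]
    (hT : IsSym3 T) {a : V} (haa : ∀ v, T a a v = 0)
    (hne : ∃ v, T a v v ≠ 0) {K : Submodule k V} (hK : finrank k ↥K = 3)
    (hdec : ∀ v : V, ∃ c : k, ∃ w ∈ K, v = c • a + w)
    (μ ν : V →ₗ[k] k) (hμa : μ a = 0) (hνa : ν a = 0) (hq : ∀ w ∈ K, T a w w = μ w * ν w)
    (w : Fin 7 → V) (hwK : ∀ i, w i ∈ K) (hw0 : ∀ i, w i ≠ 0)
    (hnp : ∀ i j, i ≠ j → w j ∉ Submodule.span k {w i})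
    (hw2 : ∀ i, T a (w i) (w i) = 0) (hw3 : ∀ i, T (w i) (w i) (w i) = 0) :
    ∃ φ : V →ₗ[k] k, φ ≠ 0 ∧ ∀ v, φ v = 0 → T v v v = 0 := by
  classical
  have hor : ∀ i, μ (w i) = 0 ∨ ν (w i) = 0 := fun i => by
    rw [← mul_eq_zero, ← hq _ (hwK i)]; exact hw2 i
  let f : Fin 7 → Bool := fun i => decide (μ (w i) = 0)
  obtain ⟨y, hy⟩ := Fintype.exists_lt_card_fiber_of_mul_lt_card (f := f) (n := 3) (by simp)
  obtain ⟨t, ht, htc⟩ := Finset.exists_subset_card_eq (show 4 ≤ _ from hy)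
  let g := t.orderEmbOfFin htc
  have hgt : ∀ i, f (g i) = y := fun i => by
    have := ht (t.orderEmbOfFin_mem htc i)
    exact (Finset.mem_filter.mp this).2
  cases y with
  | true =>
    exact degenerate_aux hT haa hne hK hdec μ ν hμa hq w hwK hw0 hnp hw3 g g.injective
      fun i => of_decide_eq_true (hgt i)
  | false =>
    refine degenerate_aux hT haa hne hK hdec ν μ hνa (fun w hw => by rw [hq w hw, mul_comm]) w
      hwK hw0 hnp hw3 g g.injective fun i => ?_
    exact (hor _).resolve_left (of_decide_eq_false (hgt i))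


/-- three independent vectors -/
theorem li3 {α e1 e2 : V} {K' : Submodule k V} (hαK' : α ∉ K') (he1 : e1 ∈ K') (he2 : e2 ∈ K')
    (he10 : e1 ≠ 0) (he12 : e2 ∉ Submodule.span k {e1}) : LinearIndependent k ![α, e1, e2] := by
  rw [Fintype.linearIndependent_iff]
  intro g hg
  rw [Fin.sum_univ_three] at hg
  have hg' : g 0 • α + g 1 • e1 + g 2 • e2 = 0 := by simpa using hg
  have h0 : g 0 = 0 := by
    by_contra h0
    apply hαK'
    have h4 : α = -((g 0)⁻¹ • (g 1 • e1 + g 2 • e2)) := by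
      have h5 : g 0 • α = -(g 1 • e1 + g 2 • e2) := by
        rw [eq_neg_iff_add_eq_zero, ← hg']; abel
      have h6 : α = (g 0)⁻¹ • (g 0 • α) := by
        rw [smul_smul, inv_mul_cancel₀ h0, one_smul]
      rw [h6, h5, smul_neg]
    rw [h4]
    exact K'.neg_mem (K'.smul_mem _ (K'.add_mem (K'.smul_mem _ he1) (K'.smul_mem _ he2)))
  rw [h0, zero_smul, zero_add] at hg'
  obtain ⟨h1, h2⟩ := smul_notMem_of_pair he10 he12 hg'
  intro i; fin_cases i
  · exact h0
  · exact h1
  · exact h2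

theorem sq_expand (hT : IsSym3 T) {a : V} (haa : ∀ v, T a a v = 0) (α e1 e2 : V)
    (c s x y : k) :
    T a (c • a + s • α + x • e1 + y • e2) (c • a + s • α + x • e1 + y • e2) =
      s ^ 2 * T a α α + 2 * s * x * T a α e1 + 2 * s * y * T a α e2 + x ^ 2 * T a e1 e1 +
        2 * x * y * T a e1 e2 + y ^ 2 * T a e2 e2 := by
  have h1 : ∀ v, T a v a = 0 := fun v => by rw [hT.s23, haa]
  simp only [map_add, map_smul, LinearMap.add_apply, LinearMap.smul_apply, smul_eq_mul, haa, h1]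
  rw [hT.s23 a e1 α, hT.s23 a e2 α, hT.s23 a e2 e1]; ring

section poly

open Polynomial

noncomputable def qq (c0 c1 c2 c3 c4 c5 : k) : k[X] :=
  C c0 + C c1 * X + C c2 * X ^ 2 + C c3 * X ^ 3 + C c4 * X ^ 4 + C c5 * X ^ 5

theorem qq_coeff (c0 c1 c2 c3 c4 c5 : k) (t : Fin 6 → k) (ht : Function.Injective t)
    (h : ∀ i, c0 + c1 * t i + c2 * t i ^ 2 + c3 * t i ^ 3 + c4 * t i ^ 4 + c5 * t i ^ 5 = 0) :
    c0 = 0 ∧ c1 = 0 ∧ c2 = 0 ∧ c3 = 0 ∧ c4 = 0 ∧ c5 = 0 := by
  have hd : (qq c0 c1 c2 c3 c4 c5).natDegree ≤ 5 := by unfold qq; compute_degree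
  have h0 : qq c0 c1 c2 c3 c4 c5 = 0 := by
    refine eq_zero_of_natDegree_lt_card_of_eval_eq_zero _ ht (fun i => ?_) ?_
    · rw [qq]; simpa using h i
    · rw [Fintype.card_fin]; omega
  have e0 := congrArg (fun q => coeff q 0) h0
  have e1 := congrArg (fun q => coeff q 1) h0
  have e2 := congrArg (fun q => coeff q 2) h0
  have e3 := congrArg (fun q => coeff q 3) h0
  have e4 := congrArg (fun q => coeff q 4) h0
  have e5 := congrArg (fun q => coeff q 5) h0
  simp [qq, coeff_X, coeff_C] at e0 e1 e2 e3 e4 e5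
  exact ⟨e0, e1, e2, e3, e4, e5⟩

end poly

/-- The nondegenerate case. -/
theorem nondegenerate [CharZero k] [FiniteDimensional k V] (hV : finrank k V = 4)
    (hT : IsSym3 T) {a : V} (haa : ∀ v, T a a v = 0)
    {K : Submodule k V} (haK : a ∉ K)
    (w : Fin 7 → V) (hwK : ∀ i, w i ∈ K)
    (hnp : ∀ i j, i ≠ j → w j ∉ Submodule.span k {w i})
    (hw2 : ∀ i, T a (w i) (w i) = 0) (hw3 : ∀ i, T (w i) (w i) (w i) = 0)
    {e1 e2 : V} (he1K : e1 ∈ K) (he2K : e2 ∈ K) (hli3 : LinearIndependent k ![w 0, e1, e2])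
    {A : k} (hA : A ≠ 0) (h1 : T a (w 0) e1 = 0) (h2 : T a (w 0) e2 = -A / 2)
    (h11 : T a e1 e1 = A) (h12 : T a e1 e2 = 0) (h22 : T a e2 e2 = 0) :
    ∃ φ : V →ₗ[k] k, φ ≠ 0 ∧ ∀ v, φ v = 0 → T v v v = 0 := by
  have hli := li4 haK (hwK 0) he1K he2K hli3
  obtain ⟨c, s, x, y, hv, ⟨ca, sa, xa, ya⟩, ⟨-, -, -, -⟩, ⟨-, -, -, -⟩, -, -, -, -⟩ :=
    exists_coords4 hV hli
  have hc : ∀ i, c (w i) = 0 := by
    intro i
    by_contra h
    apply haK
    have h3 := hv (w i)
    have h4 : a = (c (w i))⁻¹ • (w i - (s (w i) • w 0 + x (w i) • e1 + y (w i) • e2)) := by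
      have h5 : w i - (s (w i) • w 0 + x (w i) • e1 + y (w i) • e2) = c (w i) • a := by
        rw [sub_eq_iff_eq_add, ← add_assoc, ← add_assoc]
        exact h3
      rw [h5, smul_smul, inv_mul_cancel₀ h, one_smul]
    rw [h4]
    exact K.smul_mem _ (K.sub_mem (hwK i) (K.add_mem (K.add_mem (K.smul_mem _ (hwK 0))
      (K.smul_mem _ he1K)) (K.smul_mem _ he2K)))
  have hq : ∀ v, T a v v = A * (x v ^ 2 - s v * y v) := by
    intro v
    conv_lhs => rw [hv v]
    rw [sq_expand hT haa, hw2 0, h1, h2, h11, h12, h22]; ring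
  have hxy : ∀ i, x (w i) ^ 2 = s (w i) * y (w i) := fun i => by
    have := hq (w i)
    rw [hw2 i] at this
    exact sub_eq_zero.mp ((mul_eq_zero.mp this.symm).resolve_left hA)
  have hy : ∀ i, i ≠ 0 → y (w i) ≠ 0 := by
    intro i hi hy
    have hx : x (w i) = 0 := by
      have := hxy i
      rw [hy, mul_zero] at this
      exact pow_eq_zero_iff (two_ne_zero) |>.mp this
    apply hnp 0 i (Ne.symm hi)
    rw [hv (w i), hc i, hx, hy]
    simp only [zero_smul, zero_add, add_zero]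
    exact Submodule.smul_mem _ _ (Submodule.mem_span_singleton_self _)
  have hwt : ∀ i, i ≠ 0 → w i = y (w i) • ((x (w i) / y (w i)) ^ 2 • w 0 +
      (x (w i) / y (w i)) • e1 + e2) := by
    intro i hi
    have hyi := hy i hi
    have e : s (w i) = y (w i) * (x (w i) / y (w i)) ^ 2 := by
      field_simp; rw [hxy i]
    have e' : x (w i) = y (w i) * (x (w i) / y (w i)) := by field_simp
    rw [smul_add, smul_add, smul_smul, smul_smul, ← e, ← e']
    conv_lhs => rw [hv (w i), hc i]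
    rw [zero_smul, zero_add]
  let t : Fin 6 → k := fun i => x (w i.succ) / y (w i.succ)
  have ht : Function.Injective t := by
    intro i j hij
    by_contra hne
    have hne' : i.succ ≠ j.succ := fun h => hne (Fin.succ_injective _ h)
    apply hnp _ _ hne'
    have hij' : x (w i.succ) / y (w i.succ) = x (w j.succ) / y (w j.succ) := hij
    rw [hwt j.succ (Fin.succ_ne_zero j), ← hij']
    have : (x (w i.succ) / y (w i.succ)) ^ 2 • w 0 + (x (w i.succ) / y (w i.succ)) • e1 + e2 =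
        (y (w i.succ))⁻¹ • w i.succ := by
      have h8 := congrArg (fun v => (y (w i.succ))⁻¹ • v) (hwt i.succ (Fin.succ_ne_zero i))
      simp only [smul_smul, inv_mul_cancel₀ (hy _ (Fin.succ_ne_zero i)), one_smul] at h8
      exact h8.symm
    rw [this, smul_smul]
    exact Submodule.smul_mem _ _ (Submodule.mem_span_singleton_self _)
  have hα := hw3 0
  have hroot : ∀ i, T e2 e2 e2 + (3 * T e1 e2 e2) * t i +
      (3 * T e1 e1 e2 + 3 * T (w 0) e2 e2) * t i ^ 2 + (T e1 e1 e1 + 6 * T (w 0) e1 e2) * t i ^ 3 +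
      (3 * T (w 0) (w 0) e2 + 3 * T (w 0) e1 e1) * t i ^ 4 +
      (3 * T (w 0) (w 0) e1) * t i ^ 5 = 0 := by
    intro i
    have h3 := hw3 i.succ
    rw [hwt i.succ (Fin.succ_ne_zero i)] at h3
    simp only [map_smul, LinearMap.smul_apply, smul_eq_mul] at h3
    have hyi := hy i.succ (Fin.succ_ne_zero i)
    have h4 := (mul_eq_zero.mp ((mul_eq_zero.mp ((mul_eq_zero.mp h3).resolve_left
      hyi)).resolve_left hyi)).resolve_left hyi
    change T (t i ^ 2 • w 0 + t i • e1 + e2) (t i ^ 2 • w 0 + t i • e1 + e2)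
      (t i ^ 2 • w 0 + t i • e1 + e2) = 0 at h4
    have h5 := K655.Pfaff.cube4 hT (w 0) e1 e2 0 (t i ^ 2) (t i) 1 0
    rw [one_smul, zero_smul, add_zero] at h5
    rw [h5, hα] at h4
    simp only [map_zero] at h4
    linear_combination h4
  obtain ⟨c0, c1, c2, c3, c4, c5⟩ := qq_coeff _ _ _ _ _ _ t ht hroot
  have h3 : (3 : k) ≠ 0 := by norm_num
  have d1 : T e1 e2 e2 = 0 := (mul_eq_zero.mp c1).resolve_left h3
  have d5 : T (w 0) (w 0) e1 = 0 := (mul_eq_zero.mp c5).resolve_left h3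
  have d2 : T (w 0) e2 e2 = - T e1 e1 e2 := by
    apply mul_left_cancel₀ h3; linear_combination c2
  have d4 : T (w 0) e1 e1 = - T (w 0) (w 0) e2 := by
    apply mul_left_cancel₀ h3; linear_combination c4
  refine ⟨(-3 * A) • c + (3 * T (w 0) (w 0) e2) • s + (-T e1 e1 e1) • x +
    (-3 * T e1 e1 e2) • y, ?_, ?_⟩
  · intro h
    have := LinearMap.congr_fun h a
    simp only [LinearMap.add_apply, LinearMap.smul_apply, ca, sa, xa, ya, smul_eq_mul, mul_one,
      mul_zero, add_zero, LinearMap.zero_apply] at this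
    exact hA (by
      have h6 : (-3 : k) ≠ 0 := by norm_num
      exact (mul_eq_zero.mp this).resolve_left h6)
  · intro v h
    simp only [LinearMap.add_apply, LinearMap.smul_apply, smul_eq_mul] at h
    conv_lhs => rw [hv v]
    rw [K655.Pfaff.cube4 hT]
    have haaa := haa a
    have haα : T a a (w 0) = 0 := haa _
    rw [haa a, haa (w 0), haa e1, haa e2, hw2 0, h1, h2, h11, h12, h22, hα, d5, c0, d1, d2, d4]
    linear_combination (s v * y v - x v ^ 2) * h + s v * x v * y v * c3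

/-- Seven lines through a singular point: the cubic form vanishes on a hyperplane. -/
theorem hyperplane_of_seven [CharZero k] [IsAlgClosed k] [FiniteDimensional k V]
    (hV : finrank k V = 4)
    (hT : IsSym3 T) {a : V} (haa : ∀ v, T a a v = 0)
    (hne : ∃ v, T a v v ≠ 0) {K : Submodule k V} (hK : finrank k ↥K = 3) (haK : a ∉ K)
    (hdec : ∀ v : V, ∃ c : k, ∃ w ∈ K, v = c • a + w)
    (w : Fin 7 → V) (hwK : ∀ i, w i ∈ K) (hw0 : ∀ i, w i ≠ 0)
    (hnp : ∀ i j, i ≠ j → w j ∉ Submodule.span k {w i})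
    (hw2 : ∀ i, T a (w i) (w i) = 0) (hw3 : ∀ i, T (w i) (w i) (w i) = 0) :
    ∃ φ : V →ₗ[k] k, φ ≠ 0 ∧ ∀ v, φ v = 0 → T v v v = 0 := by
  have hαK : w 0 ∈ K := hwK 0
  have hα0 : w 0 ≠ 0 := hw0 0
  have hαα : T a (w 0) (w 0) = 0 := hw2 0
  by_cases hdeg : ∀ z ∈ K, T a (w 0) z = 0
  · -- the base point is a vertex of the conic
    obtain ⟨K', hK'K, hK', hαK', hdec'⟩ := exists_compl (n := 2) hK hα0 hαK
    obtain ⟨e1, he1, e2, he2, he10, he12⟩ := exists_pair K' hK'.ge
    have hli3 := li3 hαK' he1 he2 he10 he12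
    have hli := li4 haK hαK (hK'K he1) (hK'K he2) hli3
    obtain ⟨s, x, y, r, hv, ⟨-, xa, ya, ra⟩, ⟨-, xα, yα, rα⟩, ⟨-, x1, y1, r1⟩, -, x2, y2, r2⟩ :=
      exists_coords4 hV hli
    obtain ⟨α', β', γ', δ', hf⟩ := quad_factor (T a e1 e1) (2 * T a e1 e2) (T a e2 e2)
    refine degenerate hT haa hne hK hdec (α' • y + β' • r) (γ' • y + δ' • r) ?_ ?_ ?_ w hwK hw0
      hnp hw2 hw3
    · simp [ya, ra]
    · simp [ya, ra]
    · intro z hz
      have e : T a z z = T a e1 e1 * y z ^ 2 + 2 * T a e1 e2 * y z * r z +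
          T a e2 e2 * r z ^ 2 := by
        conv_lhs => rw [hv z]
        rw [sq_expand hT haa, hαα, hdeg _ (hK'K he1), hdeg _ (hK'K he2)]; ring
      rw [e, hf]; rfl
  · push Not at hdeg
    obtain ⟨z, hzK, hz⟩ := hdeg
    -- a vector e1 in the kernel
    have hK2 : finrank k ↥(K ⊓ LinearMap.ker (T a (w 0))) = 2 := by
      have h1 := Submodule.finrank_sup_add_finrank_inf_eq K (LinearMap.ker (T a (w 0)))
      have h2 : K ⊓ LinearMap.ker (T a (w 0)) < K := by
        refine lt_of_le_of_ne inf_le_left fun h => hz ?_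
        have : z ∈ K ⊓ LinearMap.ker (T a (w 0)) := by rw [h]; exact hzK
        exact this.2
      have h3 := Submodule.finrank_lt_finrank_of_lt h2
      have h4 : finrank k ↥(K ⊔ LinearMap.ker (T a (w 0))) ≤ finrank k V :=
        Submodule.finrank_le _
      have h5 := LinearMap.finrank_range_add_finrank_ker (T a (w 0))
      have h6 : finrank k ↥(LinearMap.range (T a (w 0))) ≤ 1 := by
        have := Submodule.finrank_le (LinearMap.range (T a (w 0)))
        rwa [finrank_self] at this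
      omega
    obtain ⟨e1, he1U, he1w, -⟩ := exists_span_pair hK2 hα0 ⟨hαK, hαα⟩
    have he1K : e1 ∈ K := he1U.1
    have h1 : T a (w 0) e1 = 0 := he1U.2
    -- general independence
    have hind : ∀ (c u d : k), u ≠ 0 →
        LinearIndependent k ![w 0, e1 + c • w 0, u • z + d • w 0] := by
      intro c u d hu
      rw [Fintype.linearIndependent_iff]
      intro g hg
      rw [Fin.sum_univ_three] at hg
      have hg' : g 0 • w 0 + g 1 • (e1 + c • w 0) + g 2 • (u • z + d • w 0) = 0 := by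
        simpa using hg
      have h5 := congrArg (T a (w 0)) hg'
      simp only [map_add, map_smul, hαα, h1, smul_eq_mul, mul_zero, add_zero, zero_add,
        map_zero] at h5
      have h6 : g 2 = 0 := by
        rcases mul_eq_zero.mp h5 with h | h
        · exact h
        · exact absurd h (mul_ne_zero hu hz)
      rw [h6, zero_smul, add_zero] at hg'
      have h7 : (g 0 + g 1 * c) • w 0 + g 1 • e1 = 0 := by
        rw [← hg', smul_add, smul_smul, add_smul]; abel
      obtain ⟨h8, h9⟩ := smul_notMem_of_pair hα0 he1w h7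
      rw [h9, zero_mul, add_zero] at h8
      intro i; fin_cases i
      · exact h8
      · exact h9
      · exact h6
    by_cases hA : T a e1 e1 = 0
    · have hli3 := hind 0 (T a (w 0) z)⁻¹ 0 (inv_ne_zero hz)
      simp only [zero_smul, add_zero] at hli3
      have hli := li4 haK hαK he1K (K.smul_mem _ hzK) hli3
      obtain ⟨s, x, y, r, hv, ⟨-, xa, ya, ra⟩, ⟨-, xα, yα, rα⟩, ⟨-, x1, y1, r1⟩, -, x2, y2, r2⟩ :=
        exists_coords4 hV hli
      set e2 := (T a (w 0) z)⁻¹ • z with he2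
      have h2 : T a (w 0) e2 = 1 := by rw [he2, map_smul, smul_eq_mul, inv_mul_cancel₀ hz]
      refine degenerate hT haa hne hK hdec r ((2 : k) • x + (2 * T a e1 e2) • y +
        (T a e2 e2) • r) ra ?_ ?_ w hwK hw0 hnp hw2 hw3
      · simp [ya, ra, xa]
      · intro v _
        conv_lhs => rw [hv v]
        rw [sq_expand hT haa, hαα, h1, h2, hA]
        simp only [LinearMap.add_apply, LinearMap.smul_apply, smul_eq_mul]
        ring
    · set A := T a e1 e1 with hAdef
      set u := (-A / 2) / T a (w 0) z with hu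
      have hA2 : -A / 2 ≠ 0 := div_ne_zero (neg_ne_zero.mpr hA) two_ne_zero
      have hu0 : u ≠ 0 := div_ne_zero hA2 hz
      have huz : u * T a (w 0) z = -A / 2 := by rw [hu, div_mul_cancel₀ _ hz]
      set c : k := 2 * (u * T a e1 z) / A with hc
      set d : k := u ^ 2 * T a z z / A with hd
      have hcA : c * A = 2 * (u * T a e1 z) := by rw [hc, div_mul_cancel₀ _ hA]
      have hdA : d * A = u ^ 2 * T a z z := by rw [hd, div_mul_cancel₀ _ hA]
      have e1w : T a e1 (w 0) = 0 := by rw [hT.s23, h1]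
      refine nondegenerate hV hT haa haK w hwK hnp hw2 hw3
        (e1 := e1 + c • w 0) (e2 := u • z + d • w 0)
        (K.add_mem he1K (K.smul_mem _ hαK)) (K.add_mem (K.smul_mem _ hzK) (K.smul_mem _ hαK))
        (hind c u d hu0) hA ?_ ?_ ?_ ?_ ?_
      · rw [map_add, map_smul, h1, hαα, smul_zero, add_zero]
      · rw [map_add, map_smul, map_smul, hαα, smul_zero, add_zero, smul_eq_mul, huz]
      · simp only [map_add, map_smul, LinearMap.add_apply, LinearMap.smul_apply, smul_eq_mul,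
          h1, hαα, e1w, mul_zero, add_zero]
        rfl
      · simp only [map_add, map_smul, LinearMap.add_apply, LinearMap.smul_apply, smul_eq_mul,
          hαα, e1w, mul_zero, add_zero]
        linear_combination c * huz - (1/2) * hcA
      · simp only [map_add, map_smul, LinearMap.add_apply, LinearMap.smul_apply, smul_eq_mul,
          hαα, mul_zero, add_zero]
        rw [hT.s23 a z (w 0)]
        linear_combination 2 * d * huz - hdA

end K655.SingPt
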