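import Groth.Agent.Cubic.K655.Plane

set_option autoImplicit false

/-! Lines through a point of a smooth cubic surface (trilinear form version). -/

namespace K655.Through

open K656.Trilin K656.Eckardt K655.Plane Module

universe u v w

variable {k : Type u} [Field k] {V : Type v} [AddCommGroup V] [Module k V]
variable {T : V →ₗ[k] V →ₗ[k] V →ₗ[k] k}

/-- coordinates of a third vector with respect to two independent ones. -/
theorem coords {K : Submodule k V} (hK : finrank k ↥K = 2) {a b c : V} (haK : a ∈ K)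
    (hbK : b ∈ K) (hcK : c ∈ K) (ha : a ≠ 0) (hab : b ∉ Submodule.span k {a})
    (hac : c ∉ Submodule.span k {a}) (hbc : c ∉ Submodule.span k {b}) :
    ∃ x y : k, c = x • a + y • b ∧ x ≠ 0 ∧ y ≠ 0 := by
  have h1 := eq_span_pair hK ha haK hbK hab
  rw [h1] at hcK
  obtain ⟨x, y, hxy⟩ := Submodule.mem_span_pair.mp hcK
  refine ⟨x, y, hxy.symm, ?_, ?_⟩
  · rintro rfl
    apply hbc
    rw [← hxy, zero_smul, zero_add]
    exact Submodule.smul_mem _ _ (Submodule.mem_span_singleton_self b)
  · rintro rfl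
    apply hac
    rw [← hxy, zero_smul, add_zero]
    exact Submodule.smul_mem _ _ (Submodule.mem_span_singleton_self a)

/-- A binary quadratic form with three zeros vanishes. -/
theorem quad_zero_of_three [CharZero k] (hT : IsSym3 T) {K : Submodule k V}
    (hK : finrank k ↥K = 2) (v : V) {a b c : V} (haK : a ∈ K)
    (hbK : b ∈ K) (hcK : c ∈ K) (ha : a ≠ 0) (hab : b ∉ Submodule.span k {a})
    (hac : c ∉ Submodule.span k {a}) (hbc : c ∉ Submodule.span k {b})
    (h1 : T v a a = 0) (h2 : T v b b = 0) (h3 : T v c c = 0) :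
    ∀ x ∈ K, ∀ y ∈ K, T v x y = 0 := by
  obtain ⟨x, y, rfl, hx, hy⟩ := coords hK haK hbK hcK ha hab hac hbc
  have hb : T v a b = 0 := by
    simp only [map_add, map_smul, LinearMap.add_apply, LinearMap.smul_apply, smul_eq_mul] at h3
    rw [h1, h2, hT.s23 v b a] at h3
    have h4 : (2 * x * y) * T v a b = 0 := by linear_combination h3
    exact (mul_eq_zero.mp h4).resolve_left (mul_ne_zero (mul_ne_zero two_ne_zero hx) hy)
  rw [eq_span_pair hK ha haK hbK hab]
  intro p hp q hq
  obtain ⟨x1, y1, rfl⟩ := Submodule.mem_span_pair.mp hp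
  obtain ⟨x2, y2, rfl⟩ := Submodule.mem_span_pair.mp hq
  simp only [map_add, map_smul, LinearMap.add_apply, LinearMap.smul_apply, smul_eq_mul]
  rw [h1, h2, hT.s23 v b a, hb]; ring

/-- A binary cubic form with four zeros vanishes. -/
theorem cubic_zero_of_four [CharZero k] (hT : IsSym3 T) {K : Submodule k V}
    (hK : finrank k ↥K = 2) {a b c d : V} (haK : a ∈ K)
    (hbK : b ∈ K) (hcK : c ∈ K) (hdK : d ∈ K) (ha : a ≠ 0) (hab : b ∉ Submodule.span k {a})
    (hac : c ∉ Submodule.span k {a}) (hbc : c ∉ Submodule.span k {b})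
    (had : d ∉ Submodule.span k {a}) (hbd : d ∉ Submodule.span k {b})
    (hcd : d ∉ Submodule.span k {c})
    (h1 : T a a a = 0) (h2 : T b b b = 0) (h3 : T c c c = 0) (h4 : T d d d = 0) :
    ∀ x ∈ K, T x x x = 0 := by
  obtain ⟨x, y, rfl, hx, hy⟩ := coords hK haK hbK hcK ha hab hac hbc
  obtain ⟨z, w, rfl, hz, hw⟩ := coords hK haK hbK hdK ha hab had hbd
  rw [hT.cube_smul_add_smul, h1, h2] at h3 h4
  have e3 : x * T a a b + y * T a b b = 0 := by
    have : (3 * x * y) * (x * T a a b + y * T a b b) = 0 := by linear_combination h3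
    exact (mul_eq_zero.mp this).resolve_left (mul_ne_zero (mul_ne_zero three_ne_zero hx) hy)
  have e4 : z * T a a b + w * T a b b = 0 := by
    have : (3 * z * w) * (z * T a a b + w * T a b b) = 0 := by linear_combination h4
    exact (mul_eq_zero.mp this).resolve_left (mul_ne_zero (mul_ne_zero three_ne_zero hz) hw)
  have hdet : x * w - y * z ≠ 0 := by
    intro h
    apply hcd
    rw [Submodule.mem_span_singleton]
    refine ⟨z / x, ?_⟩
    rw [smul_add, smul_smul, smul_smul, div_mul_cancel₀ _ hx]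
    congr 2
    field_simp
    linear_combination -h
  have f1 : T a a b = 0 := by
    have : (x * w - y * z) * T a a b = 0 := by linear_combination w * e3 - y * e4
    exact (mul_eq_zero.mp this).resolve_left hdet
  have f2 : T a b b = 0 := by
    have : (x * w - y * z) * T a b b = 0 := by linear_combination x * e4 - z * e3
    exact (mul_eq_zero.mp this).resolve_left hdet
  rw [eq_span_pair hK ha haK hbK hab]
  intro p hp
  obtain ⟨x1, y1, rfl⟩ := Submodule.mem_span_pair.mp hp
  rw [hT.cube_smul_add_smul, h1, h2, f1, f2]; ring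

/-- a complement of a nonzero vector in a subspace. -/
theorem exists_compl {H : Submodule k V} {n : ℕ} (hH : finrank k ↥H = n + 1) {v : V}
    (hv : v ≠ 0) (hvH : v ∈ H) : ∃ K : Submodule k V, K ≤ H ∧ finrank k ↥K = n ∧ v ∉ K ∧
      ∀ h ∈ H, ∃ c : k, ∃ w ∈ K, h = c • v + w := by
  have hfd : FiniteDimensional k ↥H := FiniteDimensional.of_finrank_pos (by omega)
  obtain ⟨K', hK'⟩ := Submodule.exists_isCompl (Submodule.span k {(⟨v, hvH⟩ : H)})
  have hv' : (⟨v, hvH⟩ : H) ≠ 0 := fun h => hv (congrArg Subtype.val h)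
  have h1 := Submodule.finrank_add_eq_of_isCompl hK'
  rw [finrank_span_singleton hv', hH] at h1
  refine ⟨K'.map H.subtype, Submodule.map_subtype_le _ _, ?_, ?_, ?_⟩
  · rw [Submodule.finrank_map_subtype_eq]; omega
  · rintro ⟨w, hw, hwv⟩
    have hw2 : w = ⟨v, hvH⟩ := Subtype.ext hwv
    have h2 := hK'.disjoint
    rw [Submodule.disjoint_def] at h2
    exact hv' (h2 _ (Submodule.mem_span_singleton_self _) (hw2 ▸ hw))
  · intro h hh
    have h3 : (⟨h, hh⟩ : H) ∈ Submodule.span k {(⟨v, hvH⟩ : H)} ⊔ K' := by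
      rw [hK'.sup_eq_top]; exact Submodule.mem_top
    obtain ⟨x, hx, y, hy, hxy⟩ := Submodule.mem_sup.mp h3
    obtain ⟨c, rfl⟩ := Submodule.mem_span_singleton.mp hx
    exact ⟨c, y, ⟨y, hy, rfl⟩, by simpa using (congrArg Subtype.val hxy).symm⟩

/-- The direction in `K` of a line through `v`. -/
theorem exists_dir {H K : Submodule k V} {v : V} (hv : v ≠ 0)
    (hdec : ∀ h ∈ H, ∃ c : k, ∃ w ∈ K, h = c • v + w) {U : Submodule k V}
    (hU : finrank k ↥U = 2) (hvU : v ∈ U) (hUH : U ≤ H) :
    ∃ w ∈ K, w ∈ U ∧ w ∉ Submodule.span k {v} ∧ w ≠ 0 ∧ U = Submodule.span k {v, w} := by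
  obtain ⟨a, haU, hav, hUa⟩ := exists_span_pair hU hv hvU
  obtain ⟨c, w, hwK, rfl⟩ := hdec a (hUH haU)
  have hwU : w ∈ U := by
    have := U.sub_mem haU (U.smul_mem c hvU)
    rwa [add_sub_cancel_left] at this
  have hwv : w ∉ Submodule.span k {v} := by
    intro h
    apply hav
    exact Submodule.add_mem _ (Submodule.smul_mem _ _ (Submodule.mem_span_singleton_self v)) h
  refine ⟨w, hwK, hwU, hwv, ?_, eq_span_pair hU hv hvU hwU hwv⟩
  rintro rfl; exact hwv (Submodule.zero_mem _)

/-- directions of distinct lines through `v` are not proportional. -/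
theorem dir_notMem {v w w' : V} {U U' : Submodule k V} (hw' : w' ≠ 0)
    (hU : U = Submodule.span k {v, w}) (hU' : U' = Submodule.span k {v, w'}) (hne : U ≠ U') :
    w' ∉ Submodule.span k {w} := by
  intro h
  apply hne
  obtain ⟨c, rfl⟩ := Submodule.mem_span_singleton.mp h
  have hc : c ≠ 0 := by rintro rfl; rw [zero_smul] at hw'; exact hw' rfl
  rw [hU, hU']
  apply le_antisymm
  · rw [Submodule.span_le]
    rintro x (rfl | rfl)
    · exact Submodule.subset_span (by simp)
    · have h1 : c⁻¹ • (c • x) ∈ Submodule.span k {v, c • x} :=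
        Submodule.smul_mem _ _ (Submodule.subset_span (by simp))
      rwa [smul_smul, inv_mul_cancel₀ hc, one_smul] at h1
  · rw [Submodule.span_le]
    rintro x (rfl | rfl)
    · exact Submodule.subset_span (by simp)
    · exact Submodule.smul_mem _ _ (Submodule.subset_span (by simp))

/-- Lines through a point lie in the tangent plane. -/
theorem le_tangent [CharZero k] (hT : IsSym3 T) {v : V} {U : Submodule k V} (hvU : v ∈ U)
    (h : ∀ u ∈ U, T u u u = 0) : U ≤ LinearMap.ker (T v v) := fun _ hx => by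
  rw [LinearMap.mem_ker]; exact hT.eq_zero_of_diag U h hvU hvU hx

/-- At most three lines of a smooth cubic surface pass through a point. -/
theorem no_four_lines [CharZero k] [IsAlgClosed k] [FiniteDimensional k V]
    (hV : finrank k V = 4) (hT : IsSym3 T) (hsm : Smooth T) {v : V} (hv : v ≠ 0)
    (hvv : T v v v = 0) (g : Fin 4 → Submodule k V) (hg : Function.Injective g)
    (h : ∀ i, v ∈ g i ∧ finrank k ↥(g i) = 2 ∧ ∀ u ∈ g i, T u u u = 0) : False := by
  obtain ⟨w0, hw0⟩ := hsm v hv hvv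
  have hℓ0 : T v v ≠ 0 := fun h => hw0 (by rw [h]; rfl)
  have hH : finrank k ↥(LinearMap.ker (T v v)) = 3 := mem_ker_finrank hV hℓ0
  obtain ⟨K, hKH, hK, -, hdec⟩ := exists_compl (n := 2) hH hv (LinearMap.mem_ker.mpr hvv)
  choose w hwK hwU hwv hw0 hUw using fun i => exists_dir hv hdec (h i).2.1 (h i).1
    (le_tangent hT (h i).1 (h i).2.2)
  have hnp : ∀ i j, i ≠ j → w j ∉ Submodule.span k {w i} := fun i j hij =>
    dir_notMem (hw0 j) (hUw i) (hUw j) (fun e => hij (hg e))
  have hw3 : ∀ i, T (w i) (w i) (w i) = 0 := fun i => (h i).2.2 _ (hwU i)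
  have hw2 : ∀ i, T v (w i) (w i) = 0 := fun i =>
    hT.eq_zero_of_diag (g i) (h i).2.2 (h i).1 (hwU i) (hwU i)
  have hq := quad_zero_of_three hT hK v (hwK 0) (hwK 1) (hwK 2) (hw0 0) (hnp 0 1 (by decide))
    (hnp 0 2 (by decide)) (hnp 1 2 (by decide)) (hw2 0) (hw2 1) (hw2 2)
  have hc := cubic_zero_of_four hT hK (hwK 0) (hwK 1) (hwK 2) (hwK 3) (hw0 0)
    (hnp 0 1 (by decide)) (hnp 0 2 (by decide)) (hnp 1 2 (by decide)) (hnp 0 3 (by decide))
    (hnp 1 3 (by decide)) (hnp 2 3 (by decide)) (hw3 0) (hw3 1) (hw3 2) (hw3 3)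
  refine no_plane hV hT hsm _ hH fun y hy => ?_
  obtain ⟨c, x, hx, rfl⟩ := hdec y hy
  have hvx : T v v x = 0 := hKH hx
  have := hT.cube_smul_add_smul v x c 1
  rw [one_smul] at this
  rw [this, hvv, hvx, hq x hx x hx, hc x hx]; ring

end K655.Through
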