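import Groth.Agent.Cubic.K655.Through
import Groth.Agent.Cubic.K655.HesseB

set_option autoImplicit false

/-! Tritangent planes through a line of a smooth cubic surface: the quintic discriminant. -/

namespace K655.Tritan

open K656.Trilin K656.Eckardt K655.Plane K655.Through K655.HesseB Module

universe u v w

variable {k : Type u} [Field k] {V : Type v} [AddCommGroup V] [Module k V]

section defs

variable (T : V →ₗ[k] V →ₗ[k] V →ₗ[k] k)

/-- the discriminant quintic -/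
def disc (e0 e1 w : V) : k :=
  4 * (T e0 e0 w * T e1 e1 w - T e0 e1 w ^ 2) * T w w w -
    3 * (T e0 e0 w * T e1 w w ^ 2 - 2 * T e0 e1 w * T e0 w w * T e1 w w +
      T e1 e1 w * T e0 w w ^ 2)

/-- the derivative of the discriminant quintic in direction `e` -/
def ddisc (e0 e1 w e : V) : k :=
  4 * (T e0 e0 e * T e1 e1 w + T e0 e0 w * T e1 e1 e - 2 * T e0 e1 w * T e0 e1 e) * T w w w +
  4 * (T e0 e0 w * T e1 e1 w - T e0 e1 w ^ 2) * (3 * T w w e) -
    3 * (T e0 e0 e * T e1 w w ^ 2 + T e0 e0 w * 2 * T e1 w w * (2 * T e1 w e) -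
      2 * T e0 e1 e * T e0 w w * T e1 w w -
      2 * T e0 e1 w * (2 * T e0 w e) * T e1 w w - 2 * T e0 e1 w * T e0 w w * (2 * T e1 w e) +
      T e1 e1 e * T e0 w w ^ 2 + T e1 e1 w * 2 * T e0 w w * (2 * T e0 w e))

end defs

section alg

theorem alg_t [CharZero k] (A B C D E F A' B' C' D' E' F' x y t : k) (ht : t ≠ 0)
    (E0 : 2 * A * x + 2 * B * y + D * t = 0) (E1 : 2 * B * x + 2 * C * y + E * t = 0)
    (E2 : 3 * D * x + 3 * E * y + 2 * F * t = 0) :
    3 / t ^ 2 * (4 * (A' * C + A * C' - 2 * B * B') * F + 4 * (A * C - B ^ 2) * (3 * F') -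
      3 * (A' * E ^ 2 + A * 2 * E * (2 * E') - 2 * B' * D * E - 2 * B * (2 * D') * E -
      2 * B * D * (2 * E') + C' * D ^ 2 + C * 2 * D * (2 * D'))) =
    (4 * (3 * A / t ^ 2) * (3 * C / t ^ 2) - (6 * B / t ^ 2) ^ 2) *
      (x ^ 2 * A' + 2 * x * y * B' + y ^ 2 * C' + 2 * x * t * D' + 2 * y * t * E' +
        t ^ 2 * F') := by
  have hD : D = -(2 * A * x + 2 * B * y) / t := by field_simp; linear_combination E0
  have hE : E = -(2 * B * x + 2 * C * y) / t := by field_simp; linear_combination E1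
  have hF : F = -(3 * D * x + 3 * E * y) / (2 * t) := by field_simp; linear_combination E2
  rw [hF, hD, hE]
  field_simp
  ring

theorem alg_form_t [CharZero k] (A B C D E F x y t X Y S : k) (ht : t ≠ 0)
    (E0 : 2 * A * x + 2 * B * y + D * t = 0) (E1 : 2 * B * x + 2 * C * y + E * t = 0)
    (E2 : 3 * D * x + 3 * E * y + 2 * F * t = 0) :
    S * (3 * A * X ^ 2 + 6 * B * X * Y + 3 * C * Y ^ 2 + 3 * D * X * S + 3 * E * Y * S +
      F * S ^ 2) = S * (3 * A / t ^ 2 * (t * X + 0 * Y + -x * S) ^ 2 + 6 * B / t ^ 2 *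
        (t * X + 0 * Y + -x * S) * (0 * X + t * Y + -y * S) +
        3 * C / t ^ 2 * (0 * X + t * Y + -y * S) ^ 2) := by
  have hD : D = -(2 * A * x + 2 * B * y) / t := by field_simp; linear_combination E0
  have hE : E = -(2 * B * x + 2 * C * y) / t := by field_simp; linear_combination E1
  have hF : F = -(3 * D * x + 3 * E * y) / (2 * t) := by field_simp; linear_combination E2
  rw [hF, hD, hE]
  field_simp
  ring

theorem alg_y [CharZero k] (A B C D E F A' B' C' D' E' F' x y : k) (hy : y ≠ 0)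
    (E0 : 2 * A * x + 2 * B * y + D * 0 = 0) (E1 : 2 * B * x + 2 * C * y + E * 0 = 0)
    (E2 : 3 * D * x + 3 * E * y + 2 * F * 0 = 0) :
    3 / y ^ 2 * (4 * (A' * C + A * C' - 2 * B * B') * F + 4 * (A * C - B ^ 2) * (3 * F') -
      3 * (A' * E ^ 2 + A * 2 * E * (2 * E') - 2 * B' * D * E - 2 * B * (2 * D') * E -
      2 * B * D * (2 * E') + C' * D ^ 2 + C * 2 * D * (2 * D'))) =
    (4 * (3 * A / y ^ 2) * (F / y ^ 2) - (3 * D / y ^ 2) ^ 2) *
      (x ^ 2 * A' + 2 * x * y * B' + y ^ 2 * C' + 2 * x * 0 * D' + 2 * y * 0 * E' +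
        0 ^ 2 * F') := by
  have hB : B = -(A * x) / y := by field_simp; linear_combination E0 / 2
  have hC : C = -(B * x) / y := by field_simp; linear_combination E1 / 2
  have hE : E = -(D * x) / y := by field_simp; linear_combination E2 / 3
  rw [hC, hB, hE]
  field_simp
  ring

theorem alg_form_y [CharZero k] (A B C D E F x y X Y S : k) (hy : y ≠ 0)
    (E0 : 2 * A * x + 2 * B * y + D * 0 = 0) (E1 : 2 * B * x + 2 * C * y + E * 0 = 0)
    (E2 : 3 * D * x + 3 * E * y + 2 * F * 0 = 0) :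
    S * (3 * A * X ^ 2 + 6 * B * X * Y + 3 * C * Y ^ 2 + 3 * D * X * S + 3 * E * Y * S +
      F * S ^ 2) = S * (3 * A / y ^ 2 * (y * X + -x * Y + 0 * S) ^ 2 + 3 * D / y ^ 2 *
        (y * X + -x * Y + 0 * S) * (0 * X + 0 * Y + y * S) +
        F / y ^ 2 * (0 * X + 0 * Y + y * S) ^ 2) := by
  have hB : B = -(A * x) / y := by field_simp; linear_combination E0 / 2
  have hC : C = -(B * x) / y := by field_simp; linear_combination E1 / 2
  have hE : E = -(D * x) / y := by field_simp; linear_combination E2 / 3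
  rw [hC, hB, hE]
  field_simp
  ring

theorem alg_x [CharZero k] (A B C D E F A' B' C' D' E' F' x : k) (hx : x ≠ 0)
    (E0 : 2 * A * x + 2 * B * 0 + D * 0 = 0) (E1 : 2 * B * x + 2 * C * 0 + E * 0 = 0)
    (E2 : 3 * D * x + 3 * E * 0 + 2 * F * 0 = 0) :
    3 / x ^ 2 * (4 * (A' * C + A * C' - 2 * B * B') * F + 4 * (A * C - B ^ 2) * (3 * F') -
      3 * (A' * E ^ 2 + A * 2 * E * (2 * E') - 2 * B' * D * E - 2 * B * (2 * D') * E -
      2 * B * D * (2 * E') + C' * D ^ 2 + C * 2 * D * (2 * D'))) =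
    (4 * (3 * C / x ^ 2) * (F / x ^ 2) - (3 * E / x ^ 2) ^ 2) *
      (x ^ 2 * A' + 2 * x * 0 * B' + 0 ^ 2 * C' + 2 * x * 0 * D' + 2 * 0 * 0 * E' +
        0 ^ 2 * F') := by
  have hA : A = 0 := by
    apply mul_right_cancel₀ hx; linear_combination E0 / 2
  have hB : B = 0 := by
    apply mul_right_cancel₀ hx; linear_combination E1 / 2
  have hD : D = 0 := by
    apply mul_right_cancel₀ hx; linear_combination E2 / 3
  rw [hA, hB, hD]
  field_simp
  ring

theorem alg_form_x [CharZero k] (A B C D E F x X Y S : k) (hx : x ≠ 0)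
    (E0 : 2 * A * x + 2 * B * 0 + D * 0 = 0) (E1 : 2 * B * x + 2 * C * 0 + E * 0 = 0)
    (E2 : 3 * D * x + 3 * E * 0 + 2 * F * 0 = 0) :
    S * (3 * A * X ^ 2 + 6 * B * X * Y + 3 * C * Y ^ 2 + 3 * D * X * S + 3 * E * Y * S +
      F * S ^ 2) = S * (3 * C / x ^ 2 * (0 * X + x * Y + 0 * S) ^ 2 + 3 * E / x ^ 2 *
        (0 * X + x * Y + 0 * S) * (0 * X + 0 * Y + x * S) +
        F / x ^ 2 * (0 * X + 0 * Y + x * S) ^ 2) := by
  have hA : A = 0 := by
    apply mul_right_cancel₀ hx; linear_combination E0 / 2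
  have hB : B = 0 := by
    apply mul_right_cancel₀ hx; linear_combination E1 / 2
  have hD : D = 0 := by
    apply mul_right_cancel₀ hx; linear_combination E2 / 3
  rw [hA, hB, hD]
  field_simp
  ring

end alg

variable {T : V →ₗ[k] V →ₗ[k] V →ₗ[k] k}

/-- The normal form of the residual conic when the discriminant vanishes. -/
theorem normal_form [CharZero k] (hT : IsSym3 T) {e0 e1 w : V}
    (h000 : T e0 e0 e0 = 0) (h001 : T e1 e0 e0 = 0) (h011 : T e1 e1 e0 = 0)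
    (h111 : T e1 e1 e1 = 0) (hd : disc T e0 e1 w = 0) :
    ∃ x y t : k, (x ≠ 0 ∨ y ≠ 0 ∨ t ≠ 0) ∧
      T (x • e0 + y • e1 + t • w) (x • e0 + y • e1 + t • w) e0 = 0 ∧
      T (x • e0 + y • e1 + t • w) (x • e0 + y • e1 + t • w) e1 = 0 ∧
      T (x • e0 + y • e1 + t • w) (x • e0 + y • e1 + t • w) w = 0 ∧
      ∃ (p1 p2 p3 q1 q2 q3 a b c κ : k), κ ≠ 0 ∧
        (∀ X Y S : k, T (X • e0 + Y • e1 + S • w) (X • e0 + Y • e1 + S • w)
          (X • e0 + Y • e1 + S • w) = S * (a * (p1 * X + p2 * Y + p3 * S) ^ 2 +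
            b * (p1 * X + p2 * Y + p3 * S) * (q1 * X + q2 * Y + q3 * S) +
            c * (q1 * X + q2 * Y + q3 * S) ^ 2)) ∧
        ∀ e, κ * ddisc T e0 e1 w e = (4 * a * c - b ^ 2) *
          T (x • e0 + y • e1 + t • w) (x • e0 + y • e1 + t • w) e := by
  have hcube : ∀ X Y S : k, T (X • e0 + Y • e1 + S • w) (X • e0 + Y • e1 + S • w)
      (X • e0 + Y • e1 + S • w) = S * (3 * T e0 e0 w * X ^ 2 + 6 * T e0 e1 w * X * Y +
        3 * T e1 e1 w * Y ^ 2 + 3 * T e0 w w * X * S + 3 * T e1 w w * Y * S +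
        T w w w * S ^ 2) := by
    intro X Y S
    have := K655.Hesse.cube3 hT e0 e1 w X Y S
    rw [this, h000, h001, h011, h111, hT.s12 e1 e0 w]; ring
  have hsq : ∀ (x y t : k) (e : V), T (x • e0 + y • e1 + t • w) (x • e0 + y • e1 + t • w) e =
      x ^ 2 * T e0 e0 e + 2 * x * y * T e0 e1 e + y ^ 2 * T e1 e1 e + 2 * x * t * T e0 w e +
        2 * y * t * T e1 w e + t ^ 2 * T w w e := by
    intro x y t e
    simp only [map_add, map_smul, LinearMap.add_apply, LinearMap.smul_apply, smul_eq_mul]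
    rw [hT.s12 e1 e0 e, hT.s12 w e0 e, hT.s12 w e1 e]; ring
  -- kernel vector
  obtain ⟨z, hz, hz0⟩ : ∃ z : Fin 3 → k, z ≠ 0 ∧
      (!![6 * T e0 e0 w, 6 * T e0 e1 w, 3 * T e0 w w; 6 * T e0 e1 w, 6 * T e1 e1 w, 3 * T e1 w w;
        3 * T e0 w w, 3 * T e1 w w, 2 * T w w w] : Matrix (Fin 3) (Fin 3) k).mulVec z = 0 := by
    rw [Matrix.exists_mulVec_eq_zero_iff, Matrix.det_fin_three]
    simp only [Matrix.of_apply, Matrix.cons_val', Matrix.cons_val_zero, Matrix.cons_val_one,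
      Matrix.cons_val]
    rw [disc] at hd
    linear_combination 18 * hd
  obtain ⟨x, hx⟩ : ∃ x, x = z 0 := ⟨_, rfl⟩
  obtain ⟨y, hy⟩ : ∃ y, y = z 1 := ⟨_, rfl⟩
  obtain ⟨t, ht⟩ : ∃ t, t = z 2 := ⟨_, rfl⟩
  have E0 : 2 * T e0 e0 w * x + 2 * T e0 e1 w * y + T e0 w w * t = 0 := by
    have := congrFun hz0 0
    simp only [Matrix.mulVec, dotProduct, Fin.sum_univ_three, Matrix.of_apply, Matrix.cons_val',
      Matrix.cons_val_zero, Matrix.cons_val_one, Matrix.cons_val, Pi.zero_apply, ← hx, ← hy,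
      ← ht] at this
    apply mul_left_cancel₀ (show (3 : k) ≠ 0 by norm_num)
    linear_combination this
  have E1 : 2 * T e0 e1 w * x + 2 * T e1 e1 w * y + T e1 w w * t = 0 := by
    have := congrFun hz0 1
    simp only [Matrix.mulVec, dotProduct, Fin.sum_univ_three, Matrix.of_apply, Matrix.cons_val',
      Matrix.cons_val_zero, Matrix.cons_val_one, Matrix.cons_val, Pi.zero_apply, ← hx, ← hy,
      ← ht] at this
    apply mul_left_cancel₀ (show (3 : k) ≠ 0 by norm_num)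
    linear_combination this
  have E2 : 3 * T e0 w w * x + 3 * T e1 w w * y + 2 * T w w w * t = 0 := by
    have := congrFun hz0 2
    simp only [Matrix.mulVec, dotProduct, Fin.sum_univ_three, Matrix.of_apply, Matrix.cons_val',
      Matrix.cons_val_zero, Matrix.cons_val_one, Matrix.cons_val, Pi.zero_apply, ← hx, ← hy,
      ← ht] at this
    linear_combination this
  have hne : x ≠ 0 ∨ y ≠ 0 ∨ t ≠ 0 := by
    by_contra hc
    push Not at hc
    apply hz
    ext i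
    fin_cases i
    · exact hx ▸ hc.1
    · exact hy ▸ hc.2.1
    · exact ht ▸ hc.2.2
  refine ⟨x, y, t, hne, ?_, ?_, ?_, ?_⟩
  · rw [hsq, h000, hT.s23 e0 e1 e0, hT.s12 e0 e0 e1, hT.rot' e0 e0 e1, h001, h011,
      hT.s23 e0 w e0, hT.s23 e1 w e0, hT.s12 e1 e0 w, hT.rot w w e0, hT.rot w e0 w]
    linear_combination t * E0
  · rw [hsq, hT.rot' e0 e0 e1, h001, hT.rot' e0 e1 e1, hT.s23 e1 e0 e1, h011, h111,
      hT.s23 e0 w e1, hT.s23 e1 w e1, hT.rot w w e1, hT.rot w e1 w]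
    linear_combination t * E1
  · rw [hsq]
    have h2 : (2 : k) ≠ 0 := two_ne_zero
    apply mul_left_cancel₀ h2
    linear_combination x * E0 + y * E1 + t * E2
  · by_cases ht0 : t = 0
    · by_cases hy0 : y = 0
      · have hx0 : x ≠ 0 := by
          rcases hne with h | h | h
          · exact h
          · exact absurd hy0 h
          · exact absurd ht0 h
        subst ht0 hy0
        refine ⟨0, x, 0, 0, 0, x, 3 * T e1 e1 w / x ^ 2, 3 * T e1 w w / x ^ 2, T w w w / x ^ 2,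
          3 / x ^ 2, div_ne_zero (by norm_num) (pow_ne_zero _ hx0), fun X Y S => ?_, fun e => ?_⟩
        · rw [hcube]; exact alg_form_x _ _ _ _ _ _ x X Y S hx0 E0 E1 E2
        · rw [ddisc, hsq]; exact alg_x _ _ _ _ _ _ _ _ _ _ _ _ x hx0 E0 E1 E2
      · subst ht0
        refine ⟨y, -x, 0, 0, 0, y, 3 * T e0 e0 w / y ^ 2, 3 * T e0 w w / y ^ 2, T w w w / y ^ 2,
          3 / y ^ 2, div_ne_zero (by norm_num) (pow_ne_zero _ hy0), fun X Y S => ?_, fun e => ?_⟩
        · rw [hcube]; exact alg_form_y _ _ _ _ _ _ x y X Y S hy0 E0 E1 E2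
        · rw [ddisc, hsq]; exact alg_y _ _ _ _ _ _ _ _ _ _ _ _ x y hy0 E0 E1 E2
    · refine ⟨t, 0, -x, 0, t, -y, 3 * T e0 e0 w / t ^ 2, 6 * T e0 e1 w / t ^ 2,
        3 * T e1 e1 w / t ^ 2, 3 / t ^ 2, div_ne_zero (by norm_num) (pow_ne_zero _ ht0),
        fun X Y S => ?_, fun e => ?_⟩
      · rw [hcube]; exact alg_form_t _ _ _ _ _ _ x y t X Y S ht0 E0 E1 E2
      · rw [ddisc, hsq]; exact alg_t _ _ _ _ _ _ _ _ _ _ _ _ x y t ht0 E0 E1 E2

end K655.Tritan
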