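import Groth.Agent.Cubic.K655.Tritan

set_option autoImplicit false

/-! Tritangent planes through a line of a smooth cubic surface: the correspondence. -/

namespace K655.Tritan

open K656.Trilin K656.Eckardt K655.Plane K655.Through K655.HesseB Module

universe u v w

variable {k : Type u} [Field k] {V : Type v} [AddCommGroup V] [Module k V]
variable {T : V →ₗ[k] V →ₗ[k] V →ₗ[k] k}

theorem exists_smul_of_ker_le {W : Type*} [AddCommGroup W] [Module k W] (μ ν : W →ₗ[k] k)
    (h : LinearMap.ker ν ≤ LinearMap.ker μ) : ∃ c : k, μ = c • ν := by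
  by_cases hν : ν = 0
  · refine ⟨0, ?_⟩
    rw [hν, LinearMap.ker_zero, top_le_iff, LinearMap.ker_eq_top] at h
    rw [h, zero_smul]
  · obtain ⟨z, hz⟩ : ∃ z, ν z ≠ 0 := by
      by_contra hc
      push Not at hc
      exact hν (LinearMap.ext hc)
    refine ⟨μ z / ν z, LinearMap.ext fun w => ?_⟩
    have h1 : w - (ν w / ν z) • z ∈ LinearMap.ker ν := by
      rw [LinearMap.mem_ker, map_sub, map_smul, smul_eq_mul, div_mul_cancel₀ _ hz, sub_self]
    have h2 := h h1
    rw [LinearMap.mem_ker, map_sub, map_smul, smul_eq_mul, sub_eq_zero] at h2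
    rw [h2, LinearMap.smul_apply, smul_eq_mul]
    field_simp

/-- the linear parametrisation of the span of three vectors -/
noncomputable def par (e0 e1 w : V) : (Fin 3 → k) →ₗ[k] V :=
  (LinearMap.proj 0 : (Fin 3 → k) →ₗ[k] k).smulRight e0 +
    (LinearMap.proj 1 : (Fin 3 → k) →ₗ[k] k).smulRight e1 +
    (LinearMap.proj 2 : (Fin 3 → k) →ₗ[k] k).smulRight w

theorem par_apply (e0 e1 w : V) (z : Fin 3 → k) :
    par e0 e1 w z = z 0 • e0 + z 1 • e1 + z 2 • w := rfl

theorem par_injective {e0 e1 w : V} (h : LinearIndependent k ![e0, e1, w]) :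
    Function.Injective (par (k := k) e0 e1 w) := by
  rw [← LinearMap.ker_eq_bot, LinearMap.ker_eq_bot']
  intro z hz
  rw [par_apply] at hz
  have := Fintype.linearIndependent_iff.mp h z (by
    rw [Fin.sum_univ_three]; simpa using hz)
  exact funext this

theorem range_par (e0 e1 w : V) :
    LinearMap.range (par e0 e1 w) = Submodule.span k {e0, e1, w} := by
  apply le_antisymm
  · rintro _ ⟨z, rfl⟩
    rw [par_apply]
    exact Submodule.add_mem _ (Submodule.add_mem _
      (Submodule.smul_mem _ _ (Submodule.subset_span (by simp)))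
      (Submodule.smul_mem _ _ (Submodule.subset_span (by simp))))
      (Submodule.smul_mem _ _ (Submodule.subset_span (by simp)))
  · rw [Submodule.span_le]
    rintro x (rfl | rfl | rfl)
    · exact ⟨![1, 0, 0], by simp [par_apply]⟩
    · exact ⟨![0, 1, 0], by simp [par_apply]⟩
    · exact ⟨![0, 0, 1], by simp [par_apply]⟩

/-- binary quadratic forms factor -/
theorem quad_factor [CharZero k] [IsAlgClosed k] (a b c : k) :
    ∃ α β γ δ : k, ∀ P Q : k, a * P ^ 2 + b * P * Q + c * Q ^ 2 =
      (α * P + β * Q) * (γ * P + δ * Q) := by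
  by_cases ha : a = 0
  · exact ⟨0, 1, b, c, fun P Q => by rw [ha]; ring⟩
  · obtain ⟨d, hd⟩ := IsAlgClosed.exists_pow_nat_eq (b ^ 2 - 4 * a * c) (n := 2) (by norm_num)
    refine ⟨a, (b + d) / 2, 1, (b - d) / (2 * a), fun P Q => ?_⟩
    field_simp
    linear_combination Q ^ 2 * hd

/-- `T` on the span of three vectors: the section has no double line, in coordinates. -/
theorem no_double_par [CharZero k] [IsAlgClosed k] [FiniteDimensional k V]
    (hV : finrank k V = 4) (hT : IsSym3 T) (hsm : Smooth T) {e0 e1 w : V}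
    (hli : LinearIndependent k ![e0, e1, w]) (m n : (Fin 3 → k) →ₗ[k] k)
    (h : ∀ z, T (par e0 e1 w z) (par e0 e1 w z) (par e0 e1 w z) = m z ^ 2 * n z) : False :=
  no_double hV hT hsm (by simp) (par e0 e1 w) (par_injective hli) m n h

/-- a linear functional on `k³` with given coefficients -/
noncomputable def fn (a b c : k) : (Fin 3 → k) →ₗ[k] k :=
  a • LinearMap.proj 0 + b • LinearMap.proj 1 + c • LinearMap.proj 2

theorem fn_apply (a b c : k) (z : Fin 3 → k) : fn a b c z = a * z 0 + b * z 1 + c * z 2 := rfl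

/-- All roots of the discriminant are simple. -/
theorem ddisc_ne_zero [CharZero k] [IsAlgClosed k] [FiniteDimensional k V]
    (hV : finrank k V = 4) (hT : IsSym3 T) (hsm : Smooth T) {e0 e1 w e : V}
    (hli : LinearIndependent k ![e0, e1, w]) (he : e ∉ Submodule.span k {e0, e1, w})
    (h000 : T e0 e0 e0 = 0) (h001 : T e1 e0 e0 = 0) (h011 : T e1 e1 e0 = 0)
    (h111 : T e1 e1 e1 = 0) (hd : disc T e0 e1 w = 0) : ddisc T e0 e1 w e ≠ 0 := by
  intro h0
  obtain ⟨x, y, t, hne, f0, f1, f2, p1, p2, p3, q1, q2, q3, a, b, c, κ, hκ, hform, hder⟩ :=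
    normal_form hT h000 h001 h011 h111 hd
  have hv0 : x • e0 + y • e1 + t • w ≠ 0 := by
    intro h
    have := Fintype.linearIndependent_iff.mp hli ![x, y, t] (by
      rw [Fin.sum_univ_three]; simpa using h)
    rcases hne with h1 | h1 | h1
    · exact h1 (this 0)
    · exact h1 (this 1)
    · exact h1 (this 2)
  have hH : finrank k ↥(Submodule.span k {e0, e1, w}) = 3 := by
    rw [← range_par, LinearMap.finrank_range_of_inj (par_injective hli)]; simp
  have hsp : ∀ v ∈ Submodule.span k {e0, e1, w},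
      T (x • e0 + y • e1 + t • w) (x • e0 + y • e1 + t • w) v = 0 := by
    intro v hv
    rw [← range_par] at hv
    obtain ⟨z, rfl⟩ := hv
    rw [par_apply, map_add, map_add, map_smul, map_smul, map_smul, f0, f1, f2]; simp
  have hTe : T (x • e0 + y • e1 + t • w) (x • e0 + y • e1 + t • w) e ≠ 0 := by
    intro h
    obtain ⟨v, hv⟩ := hsm _ hv0 (hsp _ (by
      exact Submodule.add_mem _ (Submodule.add_mem _
        (Submodule.smul_mem _ _ (Submodule.subset_span (by simp)))
        (Submodule.smul_mem _ _ (Submodule.subset_span (by simp))))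
        (Submodule.smul_mem _ _ (Submodule.subset_span (by simp)))))
    apply hv
    obtain ⟨h', hh', c', rfl⟩ := decomp (n := 3) hV _ hH he v
    rw [map_add, map_smul, hsp _ hh', h]; simp
  have h4 : b ^ 2 = 4 * a * c := by
    have := hder e
    rw [h0, mul_zero] at this
    have h5 := (mul_eq_zero.mp this.symm).resolve_right hTe
    linear_combination -h5
  obtain ⟨m, n, hm, hmn, hn⟩ := exists_sqrt a b c h4
  refine no_double_par hV hT hsm hli (m • fn p1 p2 p3 + n • fn q1 q2 q3) (fn 0 0 1) fun z => ?_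
  rw [par_apply, hform]
  simp only [LinearMap.add_apply, LinearMap.smul_apply, smul_eq_mul, fn_apply]
  rw [← hm, ← hmn, ← hn]
  ring

/-- Zeros of the discriminant give tritangent planes. -/
theorem exists_lines [CharZero k] [IsAlgClosed k] [FiniteDimensional k V]
    (hV : finrank k V = 4) (hT : IsSym3 T) (hsm : Smooth T) {e0 e1 w : V}
    (hli : LinearIndependent k ![e0, e1, w])
    (h000 : T e0 e0 e0 = 0) (h001 : T e1 e0 e0 = 0) (h011 : T e1 e1 e0 = 0)
    (h111 : T e1 e1 e1 = 0) (hd : disc T e0 e1 w = 0) :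
    ∃ L' L'' : Submodule k V, finrank k ↥L' = 2 ∧ finrank k ↥L'' = 2 ∧
        L' ≠ Submodule.span k {e0, e1} ∧ L'' ≠ Submodule.span k {e0, e1} ∧ L' ≠ L'' ∧
        L' ≤ Submodule.span k {e0, e1, w} ∧ L'' ≤ Submodule.span k {e0, e1, w} ∧
        (∀ u ∈ L', T u u u = 0) ∧ (∀ u ∈ L'', T u u u = 0) := by
  obtain ⟨x, y, t, hne, f0, f1, f2, p1, p2, p3, q1, q2, q3, a, b, c, κ, hκ, hform, hder⟩ :=
    normal_form hT h000 h001 h011 h111 hd
  obtain ⟨α, β, γ, δ, hf⟩ := quad_factor a b c
  set μ : (Fin 3 → k) →ₗ[k] k := α • fn p1 p2 p3 + β • fn q1 q2 q3 with hμ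
  set ν : (Fin 3 → k) →ₗ[k] k := γ • fn p1 p2 p3 + δ • fn q1 q2 q3 with hν
  set σ : (Fin 3 → k) →ₗ[k] k := fn 0 0 1 with hσ
  set A := par (k := k) e0 e1 w with hA
  have hAi : Function.Injective A := par_injective hli
  have key : ∀ z, T (A z) (A z) (A z) = σ z * μ z * ν z := by
    intro z
    rw [hA, par_apply, hform, hf]
    simp only [hμ, hν, hσ, LinearMap.add_apply, LinearMap.smul_apply, smul_eq_mul, fn_apply]
    ring
  have hW : finrank k (Fin 3 → k) = 2 + 1 := by simp
  have hμσ : LinearMap.ker μ ≠ LinearMap.ker σ := by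
    intro h
    obtain ⟨c, hc⟩ := exists_smul_of_ker_le μ σ h.ge
    refine no_double_par hV hT hsm hli σ (c • ν) fun z => ?_
    rw [← hA, key, hc]
    simp only [LinearMap.smul_apply, smul_eq_mul]; ring
  have hνσ : LinearMap.ker ν ≠ LinearMap.ker σ := by
    intro h
    obtain ⟨c, hc⟩ := exists_smul_of_ker_le ν σ h.ge
    refine no_double_par hV hT hsm hli σ (c • μ) fun z => ?_
    rw [← hA, key, hc]
    simp only [LinearMap.smul_apply, smul_eq_mul]; ring
  have hμν : LinearMap.ker μ ≠ LinearMap.ker ν := by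
    intro h
    obtain ⟨c, hc⟩ := exists_smul_of_ker_le μ ν h.ge
    refine no_double_par hV hT hsm hli ν (c • σ) fun z => ?_
    rw [← hA, key, hc]
    simp only [LinearMap.smul_apply, smul_eq_mul]; ring
  have hμ0 : μ ≠ 0 := by
    intro h
    refine no_double_par hV hT hsm hli 0 0 fun z => ?_
    rw [← hA, key, h]; simp
  have hν0 : ν ≠ 0 := by
    intro h
    refine no_double_par hV hT hsm hli 0 0 fun z => ?_
    rw [← hA, key, h]; simp
  have hL : Submodule.span k {e0, e1} = (LinearMap.ker σ).map A := by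
    apply le_antisymm
    · rw [Submodule.span_le]
      rintro x (rfl | rfl)
      · exact ⟨![1, 0, 0], by simp [hσ, fn_apply], by simp [hA, par_apply]⟩
      · exact ⟨![0, 1, 0], by simp [hσ, fn_apply], by simp [hA, par_apply]⟩
    · rintro _ ⟨z, hz, rfl⟩
      have hz2 : z 2 = 0 := by
        have : σ z = 0 := hz
        simpa [hσ, fn_apply] using this
      rw [hA, par_apply, hz2, zero_smul, add_zero]
      exact Submodule.add_mem _
        (Submodule.smul_mem _ _ (Submodule.subset_span (by simp)))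
        (Submodule.smul_mem _ _ (Submodule.subset_span (by simp)))
  have hmapinj : Function.Injective (Submodule.map A) := Submodule.map_injective_of_injective hAi
  have hfr : ∀ φ : (Fin 3 → k) →ₗ[k] k, φ ≠ 0 →
      finrank k ↥((LinearMap.ker φ).map A) = 2 := fun φ hφ => by
    rw [← LinearEquiv.finrank_eq (Submodule.equivMapOfInjective A hAi _), mem_ker_finrank hW hφ]
  refine ⟨(LinearMap.ker μ).map A, (LinearMap.ker ν).map A, hfr μ hμ0, hfr ν hν0, ?_, ?_, ?_,
    ?_, ?_, ?_, ?_⟩
  · rw [hL]; exact fun h => hμσ (hmapinj h)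
  · rw [hL]; exact fun h => hνσ (hmapinj h)
  · exact fun h => hμν (hmapinj h)
  · rw [← range_par]; exact LinearMap.map_le_range
  · rw [← range_par]; exact LinearMap.map_le_range
  · rintro _ ⟨z, hz, rfl⟩
    have hz' : μ z = 0 := hz
    rw [key, hz']; ring
  · rintro _ ⟨z, hz, rfl⟩
    have hz' : ν z = 0 := hz
    rw [key, hz']; ring

end K655.Tritan
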