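import Groth.Agent.Cubic.K655.TritanB

set_option autoImplicit false

/-! Tritangent planes through a line of a smooth cubic surface: converse and count. -/

namespace K655.Tritan

open K656.Trilin K656.Eckardt K655.Plane K655.Through K655.HesseB Module

universe u v w

variable {k : Type u} [Field k] {V : Type v} [AddCommGroup V] [Module k V]
variable {T : V →ₗ[k] V →ₗ[k] V →ₗ[k] k}

theorem disc_eq_zero_of_kernel [CharZero k] (e0 e1 w : V) (x y t : k)
    (hne : x ≠ 0 ∨ y ≠ 0 ∨ t ≠ 0)
    (E0 : 2 * T e0 e0 w * x + 2 * T e0 e1 w * y + T e0 w w * t = 0)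
    (E1 : 2 * T e0 e1 w * x + 2 * T e1 e1 w * y + T e1 w w * t = 0)
    (E2 : 3 * T e0 w w * x + 3 * T e1 w w * y + 2 * T w w w * t = 0) :
    disc T e0 e1 w = 0 := by
  have h : ∃ z : Fin 3 → k, z ≠ 0 ∧
      (!![6 * T e0 e0 w, 6 * T e0 e1 w, 3 * T e0 w w; 6 * T e0 e1 w, 6 * T e1 e1 w, 3 * T e1 w w;
        3 * T e0 w w, 3 * T e1 w w, 2 * T w w w] : Matrix (Fin 3) (Fin 3) k).mulVec z = 0 := by
    refine ⟨![x, y, t], ?_, ?_⟩
    · intro h
      rcases hne with h1 | h1 | h1
      · exact h1 (congrFun h 0)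
      · exact h1 (congrFun h 1)
      · exact h1 (congrFun h 2)
    · ext i
      fin_cases i
      · simp only [Matrix.mulVec, dotProduct, Fin.sum_univ_three, Matrix.of_apply,
          Matrix.cons_val', Matrix.cons_val_zero, Matrix.cons_val_one, Matrix.cons_val,
          Pi.zero_apply, Fin.zero_eta]
        linear_combination 3 * E0
      · simp only [Matrix.mulVec, dotProduct, Fin.sum_univ_three, Matrix.of_apply,
          Matrix.cons_val', Matrix.cons_val_zero, Matrix.cons_val_one, Matrix.cons_val,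
          Pi.zero_apply, Fin.mk_one]
        linear_combination 3 * E1
      · simp only [Matrix.mulVec, dotProduct, Fin.sum_univ_three, Matrix.of_apply,
          Matrix.cons_val', Matrix.cons_val_zero, Matrix.cons_val_one, Matrix.cons_val,
          Pi.zero_apply, Fin.reduceFinMk]
        linear_combination E2
  rw [Matrix.exists_mulVec_eq_zero_iff, Matrix.det_fin_three] at h
  simp only [Matrix.of_apply, Matrix.cons_val', Matrix.cons_val_zero, Matrix.cons_val_one,
    Matrix.cons_val] at h
  rw [disc]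
  apply mul_left_cancel₀ (show (18 : k) ≠ 0 by norm_num)
  linear_combination h

/-- Tritangent planes give zeros of the discriminant. -/
theorem disc_eq_zero [CharZero k] [FiniteDimensional k V] (hT : IsSym3 T) {e0 e1 w : V}
    (hli : LinearIndependent k ![e0, e1, w])
    (h000 : T e0 e0 e0 = 0) (h001 : T e1 e0 e0 = 0) (h011 : T e1 e1 e0 = 0)
    (h111 : T e1 e1 e1 = 0) {L' L'' : Submodule k V} (h1 : finrank k ↥L' = 2)
    (h2 : finrank k ↥L'' = 2) (hL' : L' ≠ Submodule.span k {e0, e1})
    (hL'' : L'' ≠ Submodule.span k {e0, e1}) (hne : L' ≠ L'')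
    (hH' : L' ≤ Submodule.span k {e0, e1, w}) (hH'' : L'' ≤ Submodule.span k {e0, e1, w})
    (hT' : ∀ u ∈ L', T u u u = 0) (hT'' : ∀ u ∈ L'', T u u u = 0) : disc T e0 e1 w = 0 := by
  set H := Submodule.span k {e0, e1, w} with hHd
  have hH : finrank k ↥H = 3 := by
    rw [hHd, ← range_par, LinearMap.finrank_range_of_inj (par_injective hli)]; simp
  have he0H : e0 ∈ H := Submodule.subset_span (by simp)
  have he1H : e1 ∈ H := Submodule.subset_span (by simp)
  have hwH : w ∈ H := Submodule.subset_span (by simp)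
  -- sum and intersection
  have hlt : L' ⊓ L'' < L' := by
    refine lt_of_le_of_ne inf_le_left fun h => hne ?_
    have h3 : L' ≤ L'' := by rw [← h]; exact inf_le_right
    exact Submodule.eq_of_le_of_finrank_eq h3 (by rw [h1, h2])
  have hlt' := Submodule.finrank_lt_finrank_of_lt hlt
  have hsum := Submodule.finrank_sup_add_finrank_inf_eq L' L''
  have hle : L' ⊔ L'' ≤ H := sup_le hH' hH''
  have hle' := Submodule.finrank_mono hle
  have hsup : L' ⊔ L'' = H := by
    apply Submodule.eq_of_le_of_finrank_le hle; rw [hH]; omega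
  have hinf : L' ⊓ L'' ≠ ⊥ := by
    intro h
    rw [h, hsup, hH] at hsum; simp at hsum; omega
  obtain ⟨v0, hv0, hv0n⟩ := Submodule.exists_mem_ne_zero_of_ne_bot hinf
  obtain ⟨hv', hv''⟩ := hv0
  have hsp : ∀ v ∈ H, T v0 v0 v = 0 := by
    intro v hv
    rw [← hsup] at hv
    obtain ⟨a, ha, b, hb, rfl⟩ := Submodule.mem_sup.mp hv
    rw [map_add, hT.eq_zero_of_diag L' hT' hv' hv' ha, hT.eq_zero_of_diag L'' hT'' hv'' hv'' hb,
      add_zero]
  have hvH : v0 ∈ H := hH' hv'
  obtain ⟨x, y, t, hxyt⟩ : ∃ x y t : k, v0 = x • e0 + y • e1 + t • w := by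
    rw [hHd, ← range_par] at hvH
    obtain ⟨z, hz⟩ := hvH
    exact ⟨z 0, z 1, z 2, hz.symm⟩
  have hxn : x ≠ 0 ∨ y ≠ 0 ∨ t ≠ 0 := by
    by_contra hc
    push Not at hc
    apply hv0n
    rw [hxyt, hc.1, hc.2.1, hc.2.2]; simp
  by_cases ht : t = 0
  · -- the point is on `L`
    have hspan : finrank k ↥(Submodule.span k {e0, e1}) = 2 := by
      have hli2 : LinearIndependent k ![e0, e1] := by
        rw [LinearIndependent.pair_iff]
        intro s t hst
        have := Fintype.linearIndependent_iff.mp hli ![s, t, 0] (by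
          rw [Fin.sum_univ_three]; simpa using hst)
        exact ⟨this 0, this 1⟩
      have := finrank_span_eq_card hli2
      have hr : Set.range ![e0, e1] = {e0, e1} := by simp [Set.pair_comm]
      rw [hr] at this
      simpa using this
    have hLH : Submodule.span k {e0, e1} ≤ H := Submodule.span_mono (by
      rintro x (rfl | rfl) <;> simp)
    have hLz : ∀ u ∈ Submodule.span k {e0, e1}, T u u u = 0 := by
      intro u hu
      obtain ⟨a, b, rfl⟩ := Submodule.mem_span_pair.mp hu
      rw [hT.cube_smul_add_smul, h000, hT.rot' e0 e0 e1, h001, hT.rot e0 e1 e1, h011, h111]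
      ring
    have hv0L : v0 ∈ Submodule.span k {e0, e1} := by
      rw [hxyt, ht, zero_smul, add_zero]
      exact Submodule.mem_span_pair.mpr ⟨x, y, rfl⟩
    obtain ⟨K, hKH, hK, -, hdec⟩ := exists_compl (n := 2) hH hv0n hvH
    obtain ⟨a, haK, haU, hav, ha0, hUa⟩ := exists_dir hv0n hdec h1 hv' hH'
    obtain ⟨b, hbK, hbU, hbv, hb0, hUb⟩ := exists_dir hv0n hdec h2 hv'' hH''
    obtain ⟨c, hcK, hcU, hcv, hc0, hUc⟩ := exists_dir hv0n hdec hspan hv0L hLH
    have hq := quad_zero_of_three hT hK v0 haK hbK hcK ha0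
      (dir_notMem hb0 hUa hUb hne) (dir_notMem hc0 hUa hUc hL') (dir_notMem hc0 hUb hUc hL'')
      (hT.eq_zero_of_diag L' hT' hv' haU haU) (hT.eq_zero_of_diag L'' hT'' hv'' hbU hbU)
      (hT.eq_zero_of_diag _ hLz hv0L hcU hcU)
    have hall : ∀ p ∈ H, ∀ q ∈ H, T v0 p q = 0 := by
      intro p hp q hq'
      obtain ⟨c1, p', hpK, rfl⟩ := hdec p hp
      obtain ⟨c2, q', hqK, rfl⟩ := hdec q hq'
      simp only [map_add, map_smul, LinearMap.add_apply, LinearMap.smul_apply, smul_eq_mul]
      rw [hq p' hpK q' hqK, hsp v0 hvH, hsp q' (hKH hqK), hT.s23 v0 p' v0, hsp p' (hKH hpK)]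
      ring
    subst ht
    refine disc_eq_zero_of_kernel e0 e1 w x y 0 hxn ?_ ?_ ?_
    · have := hall e0 he0H w hwH
      rw [hxyt] at this
      simp only [map_add, map_smul, LinearMap.add_apply, LinearMap.smul_apply, smul_eq_mul,
        zero_smul, add_zero] at this
      rw [hT.s12 e1 e0 w] at this
      linear_combination 2 * this
    · have := hall e1 he1H w hwH
      rw [hxyt] at this
      simp only [map_add, map_smul, LinearMap.add_apply, LinearMap.smul_apply, smul_eq_mul,
        zero_smul, add_zero] at this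
      linear_combination 2 * this
    · have := hall w hwH w hwH
      rw [hxyt] at this
      simp only [map_add, map_smul, LinearMap.add_apply, LinearMap.smul_apply, smul_eq_mul,
        zero_smul, add_zero] at this
      linear_combination 3 * this
  · have hsq : ∀ e : V, T (x • e0 + y • e1 + t • w) (x • e0 + y • e1 + t • w) e =
        x ^ 2 * T e0 e0 e + 2 * x * y * T e0 e1 e + y ^ 2 * T e1 e1 e + 2 * x * t * T e0 w e +
          2 * y * t * T e1 w e + t ^ 2 * T w w e := by
      intro e
      simp only [map_add, map_smul, LinearMap.add_apply, LinearMap.smul_apply, smul_eq_mul]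
      rw [hT.s12 e1 e0 e, hT.s12 w e0 e, hT.s12 w e1 e]; ring
    have g0 := hsp e0 he0H
    have g1 := hsp e1 he1H
    have g2 := hsp w hwH
    rw [hxyt, hsq] at g0 g1 g2
    rw [h000, hT.s23 e0 e1 e0, hT.s12 e0 e0 e1, hT.rot' e0 e0 e1, h001, h011,
      hT.s23 e0 w e0, hT.s23 e1 w e0, hT.s12 e1 e0 w, hT.rot w w e0, hT.rot w e0 w] at g0
    rw [hT.rot' e0 e0 e1, h001, hT.rot' e0 e1 e1, hT.s23 e1 e0 e1, h011, h111,
      hT.s23 e0 w e1, hT.s23 e1 w e1, hT.rot w w e1, hT.rot w e1 w] at g1
    have E0 : 2 * T e0 e0 w * x + 2 * T e0 e1 w * y + T e0 w w * t = 0 := by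
      apply mul_left_cancel₀ ht; linear_combination g0
    have E1 : 2 * T e0 e1 w * x + 2 * T e1 e1 w * y + T e1 w w * t = 0 := by
      apply mul_left_cancel₀ ht; linear_combination g1
    refine disc_eq_zero_of_kernel e0 e1 w x y t hxn E0 E1 ?_
    apply mul_left_cancel₀ ht
    linear_combination 2 * g2 - x * E0 - y * E1

end K655.Tritan
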