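import Groth.Agent.Cubic.K655.TritanC
import Mathlib.Tactic.ComputeDegree
import Mathlib.Algebra.Polynomial.FieldDivision

set_option autoImplicit false

/-! Tritangent planes through a line of a smooth cubic surface: there are exactly five. -/

namespace K655.Tritan

open K656.Trilin K656.Eckardt K655.Plane K655.Through K655.HesseB Module

universe u v w

variable {k : Type u} [Field k] {V : Type v} [AddCommGroup V] [Module k V]

section poly

open Polynomial

/-- the discriminant polynomial with abstract coefficients -/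
noncomputable def dp (a0 a1 b0 b1 c0 c1 d0 d1 d2 e0 e1 e2 f0 f1 f2 f3 : k) : k[X] :=
  4 * ((C a0 + C a1 * X) * (C c0 + C c1 * X) - (C b0 + C b1 * X) ^ 2) *
      (C f0 + C f1 * X + C f2 * X ^ 2 + C f3 * X ^ 3) -
    3 * ((C a0 + C a1 * X) * (C e0 + C e1 * X + C e2 * X ^ 2) ^ 2 -
      2 * (C b0 + C b1 * X) * (C d0 + C d1 * X + C d2 * X ^ 2) *
        (C e0 + C e1 * X + C e2 * X ^ 2) +
      (C c0 + C c1 * X) * (C d0 + C d1 * X + C d2 * X ^ 2) ^ 2)

theorem natDegree_dp (a0 a1 b0 b1 c0 c1 d0 d1 d2 e0 e1 e2 f0 f1 f2 f3 : k) :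
    (dp a0 a1 b0 b1 c0 c1 d0 d1 d2 e0 e1 e2 f0 f1 f2 f3).natDegree ≤ 5 := by
  unfold dp
  compute_degree

theorem coeff_dp (a0 a1 b0 b1 c0 c1 d0 d1 d2 e0 e1 e2 f0 f1 f2 f3 : k) :
    (dp a0 a1 b0 b1 c0 c1 d0 d1 d2 e0 e1 e2 f0 f1 f2 f3).coeff 5 =
      4 * (a1 * c1 - b1 ^ 2) * f3 - 3 * (a1 * e2 ^ 2 - 2 * b1 * d2 * e2 + c1 * d2 ^ 2) := by
  unfold dp
  compute_degree!

variable (T : V →ₗ[k] V →ₗ[k] V →ₗ[k] k)

/-- the discriminant polynomial along a pencil `w + s e` -/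
noncomputable def qp (e0 e1 w e : V) : k[X] :=
  dp (T e0 e0 w) (T e0 e0 e) (T e0 e1 w) (T e0 e1 e) (T e1 e1 w) (T e1 e1 e)
    (T e0 w w) (2 * T e0 w e) (T e0 e e) (T e1 w w) (2 * T e1 w e) (T e1 e e)
    (T w w w) (3 * T w w e) (3 * T w e e) (T e e e)

variable {T}

theorem qp_values (hT : IsSym3 T) (e0 w e : V) (s : k) :
    T e0 (w + s • e) (w + s • e) = T e0 w w + 2 * T e0 w e * s + T e0 e e * s ^ 2 := by
  simp only [map_add, map_smul, LinearMap.add_apply, LinearMap.smul_apply, smul_eq_mul]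
  rw [hT.s23 e0 e w]; ring

theorem eval_qp (hT : IsSym3 T) (e0 e1 w e : V) (s : k) :
    (qp T e0 e1 w e).eval s = disc T e0 e1 (w + s • e) := by
  have h2 := hT.cube_add_smul w e s
  rw [disc, h2, qp_values hT e0, qp_values hT e1, qp, dp]
  simp only [map_add, map_smul, smul_eq_mul, eval_sub, eval_mul, eval_add, eval_pow, eval_C,
    eval_X, eval_ofNat]
  ring

theorem eval_derivative_qp (hT : IsSym3 T) (e0 e1 w e : V) (s : k) :
    (derivative (qp T e0 e1 w e)).eval s = ddisc T e0 e1 (w + s • e) e := by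
  have h2 := hT.cube_add_smul w e s
  rw [ddisc, h2, qp_values hT e0, qp_values hT e1, hT.sq_add_smul w e e s, qp, dp]
  simp only [map_add, map_smul, smul_eq_mul, LinearMap.add_apply, LinearMap.smul_apply,
    derivative_sub, derivative_mul, derivative_pow, derivative_C,
    derivative_X, derivative_ofNat, eval_sub, eval_mul, eval_add, eval_pow, eval_C,
    eval_X, eval_ofNat, eval_zero, eval_one, Nat.cast_ofNat, Nat.add_one_sub_one,
    pow_one]
  ring

theorem coeff_qp (e0 e1 w e : V) : (qp T e0 e1 w e).coeff 5 = disc T e0 e1 e := by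
  rw [qp, coeff_dp, disc]

end poly

variable {T : V →ₗ[k] V →ₗ[k] V →ₗ[k] k}

theorem disc_add_smul_self {e0 e1 : V} (hT : IsSym3 T)
    (h000 : T e0 e0 e0 = 0) (h001 : T e1 e0 e0 = 0) (h011 : T e1 e1 e0 = 0)
    (h111 : T e1 e1 e1 = 0) {e : V} (he : e ∈ Submodule.span k {e0, e1}) :
    disc T e0 e1 e = 0 := by
  obtain ⟨a, b, rfl⟩ := Submodule.mem_span_pair.mp he
  rw [disc, hT.cube_smul_add_smul]
  simp only [map_add, map_smul, LinearMap.add_apply, LinearMap.smul_apply, smul_eq_mul]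
  rw [hT.rot' e0 e0 e1, hT.s23 e0 e1 e0, hT.rot' e0 e0 e1, hT.rot' e0 e1 e1, hT.s23 e1 e0 e1,
    h000, h001, h011, h111]
  ring

end K655.Tritan
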